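import Cfsg.Agent.Lib.Known.E6TwoMult.ClassChecks
import Cfsg.Agent.Lib.Known.E6TwoMult.EqVec

/-!
# The certificate for the bound on the two part (owner: helper6)

Exponent vectors modulo four in the unknown tails and shifts are pairs of bit planes.
-/

set_option autoImplicit false
set_option maxRecDepth 100000

namespace CfsgLib.Known.E6TwoMult

open Tab

/-- The number of unknowns. -/
def nvar : ℕ := 810

/-- Addition modulo four on planes. -/
def vadd (p q : ℕ × ℕ) : ℕ × ℕ := (p.1 ^^^ q.1, p.2 ^^^ q.2 ^^^ (p.1 &&& q.1))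

/-- Negation modulo four on planes. -/
def vneg (p : ℕ × ℕ) : ℕ × ℕ := (p.1, p.2 ^^^ p.1)

/-- A unit vector. -/
def vone (i : ℕ) : ℕ × ℕ := (2 ^ i, 0)

/-- The vector of a list of unknowns. -/
def vlist : List ℕ → ℕ × ℕ
  | [] => (0, 0)
  | i :: l => vadd (vone i) (vlist l)

/-- The combination of a list selected by two planes. -/
def combV : ℕ → ℕ → List (ℕ × ℕ) → ℕ × ℕ
  | _, _, [] => (0, 0)
  | lo, hi, e :: es =>
    bif Nat.beq (lo % 2) 1 then
      bif Nat.beq (hi % 2) 1 then vadd e (vadd e (vadd e (combV (lo / 2) (hi / 2) es)))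
      else vadd e (combV (lo / 2) (hi / 2) es)
    else
      bif Nat.beq (hi % 2) 1 then vadd e (vadd e (combV (lo / 2) (hi / 2) es))
      else combV (lo / 2) (hi / 2) es

/-- The word of a pair `b ≤ a`. -/
def rhsW (a b : ℕ) : List ℕ := bif Nat.beq a b then [] else b :: tabU.rst a b

/-- The tail of a pair `b ≤ a`. -/
def did (a b : ℕ) : ℕ := bif Nat.beq a b then a else tabU.pid a b

/-- The unknown shift of a generator. -/
def sid (k g : ℕ) : ℕ := 666 + 36 * k + g

/-- An equation between tails holds with this vector. -/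
def eqChk (s : ℕ × ℕ × ℕ × ℕ) (v : ℕ × ℕ) : Bool :=
  match s with
  | (k, a, b, c) =>
    Nat.blt a 36 && Nat.ble b a &&
    bif Nat.beq k 4 then
      Nat.ble c b &&
      let u := tabU.collect (tabU.lev allG 0) fuel (rhsW a b ++ [c])
      let w := tabU.collect (tabU.lev allG 0) fuel (a :: rhsW b c)
      u.1 == w.1 && (u.2 ++ [did a b] ++ (w.2 ++ [did b c])).all (Nat.blt · nvar) &&
        v == vadd (vlist (u.2 ++ [did a b])) (vneg (vlist (w.2 ++ [did b c])))
    else
      Nat.blt k 4 && (a :: b :: rhsW a b).all (fun g => Nat.blt g 36 && keepF k g) &&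
      let u := tabU.collect (tabU.lev allG 0) fuel (img k a ++ img k b)
      let w := tabU.collect (tabU.lev allG 0) fuel ((rhsW a b).flatMap (img k))
      u.1 == w.1 &&
        (u.2 ++ [sid k a, sid k b] ++ (w.2 ++ [did a b] ++ (rhsW a b).map (sid k))).all (Nat.blt · nvar) &&
          v == vadd (vlist (u.2 ++ [sid k a, sid k b])) (vneg (vlist (w.2 ++ [did a b] ++ (rhsW a b).map (sid k))))

/-- The equations with their vectors, by part. -/
def eqAll : List ((ℕ × ℕ × ℕ × ℕ) × (ℕ × ℕ)) := eqL.zip (eqv0 ++ eqv1 ++ eqv2 ++ eqv3)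

/-- The vectors of the equations. -/
def eqV : List (ℕ × ℕ) := eqAll.map Prod.snd

/-- The vector of a new lift. -/
def zvec (g : ℕ) : ℕ × ℕ :=
  (gaugeL.getD g []).foldr (fun e r => vadd ((e.2 % 2) * 2 ^ e.1, (e.2 / 2 % 2) * 2 ^ e.1) r) (0, 0)

/-- The first value. -/
def del1 : ℕ × ℕ := (2 ^ 38 + 2 ^ 39, 2 ^ 38)

/-- The second value. -/
def del2 : ℕ × ℕ := (2 ^ 37 + 2 ^ 38 + 2 ^ 40, 2 ^ 37 + 2 ^ 38)

/-- The vector of a class. -/
def clsV : ℕ → ℕ × ℕ
  | 1 => del1
  | 2 => del2
  | 3 => vadd del1 del2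
  | _ => (0, 0)

/-- The combinations by tail. -/
def combAll : List (ℕ × ℕ) := comb0 ++ comb1 ++ comb2 ++ comb3

/-- The new tail of a pair minus its class. -/
def tgtV (a b : ℕ) : ℕ × ℕ :=
  vadd (vadd (vone (did a b)) (vadd (zvec a) (zvec b)))
    (vneg (vadd ((rhsW a b).foldr (fun g r => vadd (zvec g) r) (0, 0)) (clsV (clsL.getD (did a b) 0))))

/-- The combination of a pair gives its new tail. -/
def pairChk (a b : ℕ) : Bool :=
  Nat.blt (did a b) nvar &&
    let p := combAll.getD (did a b) (0, 0)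
    combV p.1 p.2 eqV == tgtV a b

theorem eqs_ok0 : ((eqAll.take 161).all fun e => eqChk e.1 e.2) = true := by decide +kernel

theorem eqs_ok1 : (((eqAll.drop 161).take 161).all fun e => eqChk e.1 e.2) = true := by decide +kernel

theorem eqs_ok2 : (((eqAll.drop 322).take 161).all fun e => eqChk e.1 e.2) = true := by decide +kernel

theorem eqs_ok3 : ((eqAll.drop 483).all fun e => eqChk e.1 e.2) = true := by decide +kernel

theorem two_ok : combTwo.length = 2 ∧ combV (combTwo.getD 0 (0, 0)).1 (combTwo.getD 0 (0, 0)).2 eqV = vadd del1 del1 ∧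
    combV (combTwo.getD 1 (0, 0)).1 (combTwo.getD 1 (0, 0)).2 eqV = vadd del2 del2 := by decide +kernel

theorem gauge_lt : (gaugeL.all fun l => l.all fun e => Nat.blt e.1 nvar) = true := by decide +kernel

theorem rhs_lt : ((List.range 36).all fun a => (List.range (a + 1)).all fun b => (rhsW a b).all (Nat.blt · 36)) = true := by
  decide +kernel

end CfsgLib.Known.E6TwoMult
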