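import Cfsg.Agent.Lib.Known.E6TwoMult.Engine

/-! Tables for the unipotent group of `2E6(2)` (owner: helper6). -/

set_option autoImplicit false

namespace CfsgLib.Known.E6TwoMult

/-- row 0 -/
def tRow0 : List (List ℕ) := []

/-- row 1 -/
def tRow1 : List (List ℕ) := [[1]]

/-- row 2 -/
def tRow2 : List (List ℕ) := [[2, 4], [2, 5]]

/-- row 3 -/
def tRow3 : List (List ℕ) := [[3, 5], [3, 4, 5], [3]]

/-- row 4 -/
def tRow4 : List (List ℕ) := [[4], [4], [4], [4]]

/-- row 5 -/
def tRow5 : List (List ℕ) := [[5], [5], [5], [5], [5]]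

/-- row 6 -/
def tRow6 : List (List ℕ) := [[6], [6], [6, 7, 11], [6, 8, 11], [6, 9, 28], [6, 10, 28]]

/-- row 7 -/
def tRow7 : List (List ℕ) := [[7, 9], [7, 10], [7], [7, 11], [7, 12], [7, 13], [7]]

/-- row 8 -/
def tRow8 : List (List ℕ) := [[8, 10], [8, 9, 10], [8, 11], [8], [8, 12, 13], [8, 12], [8], [8]]

/-- row 9 -/
def tRow9 : List (List ℕ) := [[9], [9], [9, 12], [9, 12, 13], [9], [9, 28], [9], [9], [9]]

/-- row 10 -/
def tRow10 : List (List ℕ) := [[10], [10], [10, 13], [10, 12], [10, 28], [10], [10], [10], [10], [10]]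

/-- row 11 -/
def tRow11 : List (List ℕ) := [[11, 12, 28], [11, 13, 28], [11], [11], [11], [11], [11], [11], [11], [11], [11]]

/-- row 12 -/
def tRow12 : List (List ℕ) := [[12], [12, 28], [12], [12], [12], [12], [12], [12], [12], [12], [12], [12]]

/-- row 13 -/
def tRow13 : List (List ℕ) := [[13, 28], [13], [13], [13], [13], [13], [13], [13], [13], [13], [13], [13], [13]]

/-- row 14 -/
def tRow14 : List (List ℕ) := [[14], [14], [14], [14], [14], [14], [14, 15], [14, 16, 23], [14, 17, 23], [14, 18, 30], [14, 19, 30], [14, 20], [14, 21, 33], [14, 22, 33]]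

/-- row 15 -/
def tRow15 : List (List ℕ) := [[15], [15], [15, 16, 20], [15, 17, 20], [15, 18, 29], [15, 19, 29], [15], [15], [15], [15], [15], [15, 23], [15, 24, 34], [15, 25, 34], [15]]

/-- row 16 -/
def tRow16 : List (List ℕ) := [[16, 18], [16, 19], [16], [16, 20], [16, 21], [16, 22], [16], [16], [16, 23], [16, 24], [16, 25], [16], [16, 26], [16, 27], [16], [16]]

/-- row 17 -/
def tRow17 : List (List ℕ) := [[17, 19], [17, 18, 19], [17, 20], [17], [17, 21, 22], [17, 21], [17], [17, 23], [17], [17, 24, 25], [17, 24], [17], [17, 27], [17, 26, 27], [17], [17], [17]]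

/-- row 18 -/
def tRow18 : List (List ℕ) := [[18], [18], [18, 21], [18, 21, 22], [18], [18, 29], [18], [18, 24], [18, 24, 25], [18], [18, 30], [18, 26, 35], [18, 31], [18, 31, 32], [18], [18], [18], [18]]

/-- row 19 -/
def tRow19 : List (List ℕ) := [[19], [19], [19, 22], [19, 21], [19, 29], [19], [19], [19, 25], [19, 24], [19, 30], [19], [19, 27, 35], [19, 32], [19, 31], [19], [19], [19], [19], [19]]

/-- row 20 -/
def tRow20 : List (List ℕ) := [[20, 21, 29], [20, 22, 29], [20], [20], [20], [20], [20, 23], [20], [20], [20, 26, 34], [20, 27, 34], [20], [20], [20], [20], [20], [20], [20], [20], [20]]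

/-- row 21 -/
def tRow21 : List (List ℕ) := [[21], [21, 29], [21], [21], [21], [21], [21, 24, 35], [21, 26], [21, 27], [21, 31], [21, 32], [21], [21], [21, 33], [21], [21], [21], [21], [21], [21], [21]]

/-- row 22 -/
def tRow22 : List (List ℕ) := [[22, 29], [22], [22], [22], [22], [22], [22, 25, 35], [22, 27], [22, 26, 27], [22, 31, 32], [22, 31], [22], [22, 33], [22], [22], [22], [22], [22], [22], [22], [22], [22]]

/-- row 23 -/
def tRow23 : List (List ℕ) := [[23, 24, 30], [23, 25, 30], [23], [23], [23, 26, 33], [23, 27, 33], [23], [23], [23], [23], [23], [23], [23], [23], [23], [23], [23], [23], [23], [23], [23], [23], [23]]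

/-- row 24 -/
def tRow24 : List (List ℕ) := [[24], [24, 30], [24, 26], [24, 27], [24, 31], [24, 32], [24], [24], [24], [24], [24], [24], [24], [24, 34], [24], [24], [24], [24], [24], [24], [24], [24], [24, 35], [24]]

/-- row 25 -/
def tRow25 : List (List ℕ) := [[25, 30], [25], [25, 27], [25, 26, 27], [25, 31, 32], [25, 31], [25], [25], [25], [25], [25], [25], [25, 34], [25], [25], [25], [25], [25], [25], [25], [25], [25, 35], [25], [25], [25]]

/-- row 26 -/
def tRow26 : List (List ℕ) := [[26, 31], [26, 31, 32], [26], [26], [26], [26, 33], [26], [26], [26], [26], [26, 34], [26], [26], [26], [26], [26], [26], [26], [26], [26, 35], [26], [26], [26], [26], [26], [26]]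

/-- row 27 -/
def tRow27 : List (List ℕ) := [[27, 32], [27, 31], [27], [27], [27, 33], [27], [27], [27], [27], [27, 34], [27], [27], [27], [27], [27], [27], [27], [27], [27, 35], [27], [27], [27], [27], [27], [27], [27], [27]]

/-- row 28 -/
def tRow28 : List (List ℕ) := [[28], [28], [28], [28], [28], [28], [28], [28], [28], [28], [28], [28], [28], [28], [28, 29], [28, 30], [28, 31, 35], [28, 32, 35], [28], [28], [28, 33], [28], [28], [28, 34], [28], [28], [28], [28]]

/-- row 29 -/
def tRow29 : List (List ℕ) := [[29], [29], [29], [29], [29], [29], [29, 30], [29, 31, 34], [29, 32, 34], [29], [29], [29, 33], [29], [29], [29], [29], [29], [29], [29], [29], [29], [29], [29], [29, 35], [29], [29], [29], [29], [29]]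

/-- row 30 -/
def tRow30 : List (List ℕ) := [[30], [30], [30, 31, 33], [30, 32, 33], [30], [30], [30], [30], [30], [30], [30], [30, 34], [30], [30], [30], [30], [30], [30], [30], [30], [30, 35], [30], [30], [30], [30], [30], [30], [30], [30], [30]]

/-- row 31 -/
def tRow31 : List (List ℕ) := [[31], [31], [31], [31, 33], [31], [31], [31], [31], [31, 34], [31], [31], [31], [31], [31], [31], [31], [31], [31, 35], [31], [31], [31], [31], [31], [31], [31], [31], [31], [31], [31], [31], [31]]

/-- row 32 -/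
def tRow32 : List (List ℕ) := [[32], [32], [32, 33], [32], [32], [32], [32], [32, 34], [32], [32], [32], [32], [32], [32], [32], [32], [32, 35], [32], [32], [32], [32], [32], [32], [32], [32], [32], [32], [32], [32], [32], [32], [32]]

/-- row 33 -/
def tRow33 : List (List ℕ) := [[33], [33], [33], [33], [33], [33], [33, 34], [33], [33], [33], [33], [33], [33], [33], [33], [33, 35], [33], [33], [33], [33], [33], [33], [33], [33], [33], [33], [33], [33], [33], [33], [33], [33], [33]]

/-- row 34 -/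
def tRow34 : List (List ℕ) := [[34], [34], [34], [34], [34], [34], [34], [34], [34], [34], [34], [34], [34], [34], [34, 35], [34], [34], [34], [34], [34], [34], [34], [34], [34], [34], [34], [34], [34], [34], [34], [34], [34], [34], [34]]

/-- row 35 -/
def tRow35 : List (List ℕ) := [[35], [35], [35], [35], [35], [35], [35], [35], [35], [35], [35], [35], [35], [35], [35], [35], [35], [35], [35], [35], [35], [35], [35], [35], [35], [35], [35], [35], [35], [35], [35], [35], [35], [35], [35]]

/-- The twisted table. -/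
def tabU : Tab := ⟨36, [tRow0, tRow1, tRow2, tRow3, tRow4, tRow5, tRow6, tRow7, tRow8, tRow9, tRow10, tRow11, tRow12, tRow13, tRow14, tRow15, tRow16, tRow17, tRow18, tRow19, tRow20, tRow21, tRow22, tRow23, tRow24, tRow25, tRow26, tRow27, tRow28, tRow29, tRow30, tRow31, tRow32, tRow33, tRow34, tRow35]⟩

/-- row 0 -/
def aRow0 : List (List ℕ) := []

/-- row 1 -/
def aRow1 : List (List ℕ) := [[1]]

/-- row 2 -/
def aRow2 : List (List ℕ) := [[2, 4], [2, 5]]

/-- row 3 -/
def aRow3 : List (List ℕ) := [[3, 5], [3, 4, 5], [3]]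

/-- row 4 -/
def aRow4 : List (List ℕ) := [[4], [4], [4], [4]]

/-- row 5 -/
def aRow5 : List (List ℕ) := [[5], [5], [5], [5], [5]]

/-- row 6 -/
def aRow6 : List (List ℕ) := [[6], [6], [6, 8], [6, 9], [6, 10], [6, 11]]

/-- row 7 -/
def aRow7 : List (List ℕ) := [[7], [7], [7, 9], [7, 8, 9], [7, 11], [7, 10, 11], [7]]

/-- row 8 -/
def aRow8 : List (List ℕ) := [[8, 10], [8, 11], [8], [8], [8], [8], [8], [8]]

/-- row 9 -/
def aRow9 : List (List ℕ) := [[9, 11], [9, 10, 11], [9], [9], [9], [9], [9], [9], [9]]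

/-- row 10 -/
def aRow10 : List (List ℕ) := [[10], [10], [10], [10], [10], [10], [10], [10], [10], [10]]

/-- row 11 -/
def aRow11 : List (List ℕ) := [[11], [11], [11], [11], [11], [11], [11], [11], [11], [11], [11]]

/-- row 12 -/
def aRow12 : List (List ℕ) := [[12], [12], [12], [12], [12], [12], [12, 14], [12, 15], [12, 16], [12, 17], [12, 18], [12, 19]]

/-- row 13 -/
def aRow13 : List (List ℕ) := [[13], [13], [13], [13], [13], [13], [13, 15], [13, 14, 15], [13, 17], [13, 16, 17], [13, 19], [13, 18, 19], [13]]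

/-- row 14 -/
def aRow14 : List (List ℕ) := [[14], [14], [14, 16], [14, 17], [14, 18], [14, 19], [14], [14], [14], [14], [14], [14], [14], [14]]

/-- row 15 -/
def aRow15 : List (List ℕ) := [[15], [15], [15, 17], [15, 16, 17], [15, 19], [15, 18, 19], [15], [15], [15], [15], [15], [15], [15], [15], [15]]

/-- row 16 -/
def aRow16 : List (List ℕ) := [[16, 18], [16, 19], [16], [16], [16], [16], [16], [16], [16], [16], [16], [16], [16], [16], [16], [16]]

/-- row 17 -/
def aRow17 : List (List ℕ) := [[17, 19], [17, 18, 19], [17], [17], [17], [17], [17], [17], [17], [17], [17], [17], [17], [17], [17], [17], [17]]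

/-- row 18 -/
def aRow18 : List (List ℕ) := [[18], [18], [18], [18], [18], [18], [18], [18], [18], [18], [18], [18], [18], [18], [18], [18], [18], [18]]

/-- row 19 -/
def aRow19 : List (List ℕ) := [[19], [19], [19], [19], [19], [19], [19], [19], [19], [19], [19], [19], [19], [19], [19], [19], [19], [19], [19]]

/-- row 20 -/
def aRow20 : List (List ℕ) := [[20], [20], [20], [20], [20], [20], [20, 22], [20, 23], [20, 24], [20, 25], [20, 26], [20, 27], [20], [20], [20, 28], [20, 29], [20, 30], [20, 31], [20, 32], [20, 33]]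

/-- row 21 -/
def aRow21 : List (List ℕ) := [[21], [21], [21], [21], [21], [21], [21, 23], [21, 22, 23], [21, 25], [21, 24, 25], [21, 27], [21, 26, 27], [21], [21], [21, 29], [21, 28, 29], [21, 31], [21, 30, 31], [21, 33], [21, 32, 33], [21]]

/-- row 22 -/
def aRow22 : List (List ℕ) := [[22], [22], [22, 24], [22, 25], [22, 26], [22, 27], [22], [22], [22], [22], [22], [22], [22, 28], [22, 29], [22], [22], [22, 34], [22, 35], [22, 36], [22, 37], [22], [22]]

/-- row 23 -/
def aRow23 : List (List ℕ) := [[23], [23], [23, 25], [23, 24, 25], [23, 27], [23, 26, 27], [23], [23], [23], [23], [23], [23], [23, 29], [23, 28, 29], [23], [23], [23, 35], [23, 34, 35], [23, 37], [23, 36, 37], [23], [23], [23]]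

/-- row 24 -/
def aRow24 : List (List ℕ) := [[24, 26], [24, 27], [24], [24], [24], [24], [24], [24], [24], [24], [24], [24], [24, 30], [24, 31], [24, 34], [24, 35], [24], [24], [24, 38], [24, 39], [24], [24], [24], [24]]

/-- row 25 -/
def aRow25 : List (List ℕ) := [[25, 27], [25, 26, 27], [25], [25], [25], [25], [25], [25], [25], [25], [25], [25], [25, 31], [25, 30, 31], [25, 35], [25, 34, 35], [25], [25], [25, 39], [25, 38, 39], [25], [25], [25], [25], [25]]

/-- row 26 -/
def aRow26 : List (List ℕ) := [[26], [26], [26], [26], [26], [26], [26], [26], [26], [26], [26], [26], [26, 32], [26, 33], [26, 36], [26, 37], [26, 38], [26, 39], [26], [26], [26], [26], [26], [26], [26], [26]]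

/-- row 27 -/
def aRow27 : List (List ℕ) := [[27], [27], [27], [27], [27], [27], [27], [27], [27], [27], [27], [27], [27, 33], [27, 32, 33], [27, 37], [27, 36, 37], [27, 39], [27, 38, 39], [27], [27], [27], [27], [27], [27], [27], [27], [27]]

/-- row 28 -/
def aRow28 : List (List ℕ) := [[28], [28], [28, 30], [28, 31], [28, 32], [28, 33], [28], [28], [28, 34], [28, 35], [28, 36], [28, 37], [28], [28], [28], [28], [28], [28], [28], [28], [28], [28], [28], [28], [28], [28], [28], [28]]

/-- row 29 -/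
def aRow29 : List (List ℕ) := [[29], [29], [29, 31], [29, 30, 31], [29, 33], [29, 32, 33], [29], [29], [29, 35], [29, 34, 35], [29, 37], [29, 36, 37], [29], [29], [29], [29], [29], [29], [29], [29], [29], [29], [29], [29], [29], [29], [29], [29], [29]]

/-- row 30 -/
def aRow30 : List (List ℕ) := [[30, 32], [30, 33], [30], [30], [30], [30], [30, 34], [30, 35], [30], [30], [30, 38], [30, 39], [30], [30], [30], [30], [30], [30], [30], [30], [30], [30], [30], [30], [30], [30], [30], [30], [30], [30]]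

/-- row 31 -/
def aRow31 : List (List ℕ) := [[31, 33], [31, 32, 33], [31], [31], [31], [31], [31, 35], [31, 34, 35], [31], [31], [31, 39], [31, 38, 39], [31], [31], [31], [31], [31], [31], [31], [31], [31], [31], [31], [31], [31], [31], [31], [31], [31], [31], [31]]

/-- row 32 -/
def aRow32 : List (List ℕ) := [[32], [32], [32], [32], [32], [32], [32, 36], [32, 37], [32, 38], [32, 39], [32], [32], [32], [32], [32], [32], [32], [32], [32], [32], [32], [32], [32], [32], [32], [32], [32], [32], [32], [32], [32], [32]]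

/-- row 33 -/
def aRow33 : List (List ℕ) := [[33], [33], [33], [33], [33], [33], [33, 37], [33, 36, 37], [33, 39], [33, 38, 39], [33], [33], [33], [33], [33], [33], [33], [33], [33], [33], [33], [33], [33], [33], [33], [33], [33], [33], [33], [33], [33], [33], [33]]

/-- row 34 -/
def aRow34 : List (List ℕ) := [[34, 36], [34, 37], [34], [34], [34, 38], [34, 39], [34], [34], [34], [34], [34], [34], [34], [34], [34], [34], [34], [34], [34], [34], [34], [34], [34], [34], [34], [34], [34], [34], [34], [34], [34], [34], [34], [34]]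

/-- row 35 -/
def aRow35 : List (List ℕ) := [[35, 37], [35, 36, 37], [35], [35], [35, 39], [35, 38, 39], [35], [35], [35], [35], [35], [35], [35], [35], [35], [35], [35], [35], [35], [35], [35], [35], [35], [35], [35], [35], [35], [35], [35], [35], [35], [35], [35], [35], [35]]

/-- row 36 -/
def aRow36 : List (List ℕ) := [[36], [36], [36, 38], [36, 39], [36], [36], [36], [36], [36], [36], [36], [36], [36], [36], [36], [36], [36], [36], [36], [36], [36], [36], [36], [36], [36], [36], [36], [36], [36], [36], [36], [36], [36], [36], [36], [36]]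

/-- row 37 -/
def aRow37 : List (List ℕ) := [[37], [37], [37, 39], [37, 38, 39], [37], [37], [37], [37], [37], [37], [37], [37], [37], [37], [37], [37], [37], [37], [37], [37], [37], [37], [37], [37], [37], [37], [37], [37], [37], [37], [37], [37], [37], [37], [37], [37], [37]]

/-- row 38 -/
def aRow38 : List (List ℕ) := [[38], [38], [38], [38], [38], [38], [38], [38], [38], [38], [38], [38], [38], [38], [38], [38], [38], [38], [38], [38], [38], [38], [38], [38], [38], [38], [38], [38], [38], [38], [38], [38], [38], [38], [38], [38], [38], [38]]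

/-- row 39 -/
def aRow39 : List (List ℕ) := [[39], [39], [39], [39], [39], [39], [39], [39], [39], [39], [39], [39], [39], [39], [39], [39], [39], [39], [39], [39], [39], [39], [39], [39], [39], [39], [39], [39], [39], [39], [39], [39], [39], [39], [39], [39], [39], [39], [39]]

/-- row 40 -/
def aRow40 : List (List ℕ) := [[40], [40], [40], [40], [40], [40], [40], [40], [40], [40], [40], [40], [40, 42], [40, 43], [40, 44], [40, 45], [40, 46], [40, 47], [40, 48], [40, 49], [40], [40], [40], [40], [40], [40], [40], [40], [40, 50], [40, 51], [40, 52], [40, 53], [40, 54], [40, 55], [40, 56], [40, 57], [40, 58], [40, 59], [40, 60], [40, 61]]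

/-- row 41 -/
def aRow41 : List (List ℕ) := [[41], [41], [41], [41], [41], [41], [41], [41], [41], [41], [41], [41], [41, 43], [41, 42, 43], [41, 45], [41, 44, 45], [41, 47], [41, 46, 47], [41, 49], [41, 48, 49], [41], [41], [41], [41], [41], [41], [41], [41], [41, 51], [41, 50, 51], [41, 53], [41, 52, 53], [41, 55], [41, 54, 55], [41, 57], [41, 56, 57], [41, 59], [41, 58, 59], [41, 61], [41, 60, 61], [41]]

/-- row 42 -/
def aRow42 : List (List ℕ) := [[42], [42], [42], [42], [42], [42], [42, 44], [42, 45], [42, 46], [42, 47], [42, 48], [42, 49], [42], [42], [42], [42], [42], [42], [42], [42], [42], [42], [42, 50], [42, 51], [42, 52], [42, 53], [42, 54], [42, 55], [42], [42], [42], [42], [42], [42], [42, 62], [42, 63], [42, 64], [42, 65], [42, 66], [42, 67], [42], [42]]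

/-- row 43 -/
def aRow43 : List (List ℕ) := [[43], [43], [43], [43], [43], [43], [43, 45], [43, 44, 45], [43, 47], [43, 46, 47], [43, 49], [43, 48, 49], [43], [43], [43], [43], [43], [43], [43], [43], [43], [43], [43, 51], [43, 50, 51], [43, 53], [43, 52, 53], [43, 55], [43, 54, 55], [43], [43], [43], [43], [43], [43], [43, 63], [43, 62, 63], [43, 65], [43, 64, 65], [43, 67], [43, 66, 67], [43], [43], [43]]

/-- row 44 -/
def aRow44 : List (List ℕ) := [[44], [44], [44, 46], [44, 47], [44, 48], [44, 49], [44], [44], [44], [44], [44], [44], [44], [44], [44], [44], [44], [44], [44], [44], [44, 50], [44, 51], [44], [44], [44, 56], [44, 57], [44, 58], [44, 59], [44], [44], [44, 62], [44, 63], [44, 64], [44, 65], [44], [44], [44], [44], [44, 68], [44, 69], [44], [44], [44], [44]]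

/-- row 45 -/
def aRow45 : List (List ℕ) := [[45], [45], [45, 47], [45, 46, 47], [45, 49], [45, 48, 49], [45], [45], [45], [45], [45], [45], [45], [45], [45], [45], [45], [45], [45], [45], [45, 51], [45, 50, 51], [45], [45], [45, 57], [45, 56, 57], [45, 59], [45, 58, 59], [45], [45], [45, 63], [45, 62, 63], [45, 65], [45, 64, 65], [45], [45], [45], [45], [45, 69], [45, 68, 69], [45], [45], [45], [45], [45]]

/-- row 46 -/
def aRow46 : List (List ℕ) := [[46, 48], [46, 49], [46], [46], [46], [46], [46], [46], [46], [46], [46], [46], [46], [46], [46], [46], [46], [46], [46], [46], [46, 52], [46, 53], [46, 56], [46, 57], [46], [46], [46, 60], [46, 61], [46, 62], [46, 63], [46], [46], [46, 66], [46, 67], [46], [46], [46, 68], [46, 69], [46], [46], [46], [46], [46], [46], [46], [46]]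

/-- row 47 -/
def aRow47 : List (List ℕ) := [[47, 49], [47, 48, 49], [47], [47], [47], [47], [47], [47], [47], [47], [47], [47], [47], [47], [47], [47], [47], [47], [47], [47], [47, 53], [47, 52, 53], [47, 57], [47, 56, 57], [47], [47], [47, 61], [47, 60, 61], [47, 63], [47, 62, 63], [47], [47], [47, 67], [47, 66, 67], [47], [47], [47, 69], [47, 68, 69], [47], [47], [47], [47], [47], [47], [47], [47], [47]]

/-- row 48 -/
def aRow48 : List (List ℕ) := [[48], [48], [48], [48], [48], [48], [48], [48], [48], [48], [48], [48], [48], [48], [48], [48], [48], [48], [48], [48], [48, 54], [48, 55], [48, 58], [48, 59], [48, 60], [48, 61], [48], [48], [48, 64], [48, 65], [48, 66], [48, 67], [48], [48], [48, 68], [48, 69], [48], [48], [48], [48], [48], [48], [48], [48], [48], [48], [48], [48]]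

/-- row 49 -/
def aRow49 : List (List ℕ) := [[49], [49], [49], [49], [49], [49], [49], [49], [49], [49], [49], [49], [49], [49], [49], [49], [49], [49], [49], [49], [49, 55], [49, 54, 55], [49, 59], [49, 58, 59], [49, 61], [49, 60, 61], [49], [49], [49, 65], [49, 64, 65], [49, 67], [49, 66, 67], [49], [49], [49, 69], [49, 68, 69], [49], [49], [49], [49], [49], [49], [49], [49], [49], [49], [49], [49], [49]]

/-- row 50 -/
def aRow50 : List (List ℕ) := [[50], [50], [50, 52], [50, 53], [50, 54], [50, 55], [50], [50], [50, 56], [50, 57], [50, 58], [50, 59], [50], [50], [50], [50], [50, 62], [50, 63], [50, 64], [50, 65], [50], [50], [50], [50], [50], [50], [50], [50], [50], [50], [50], [50], [50], [50], [50], [50], [50], [50], [50, 70], [50, 71], [50], [50], [50], [50], [50], [50], [50], [50], [50], [50]]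

/-- row 51 -/
def aRow51 : List (List ℕ) := [[51], [51], [51, 53], [51, 52, 53], [51, 55], [51, 54, 55], [51], [51], [51, 57], [51, 56, 57], [51, 59], [51, 58, 59], [51], [51], [51], [51], [51, 63], [51, 62, 63], [51, 65], [51, 64, 65], [51], [51], [51], [51], [51], [51], [51], [51], [51], [51], [51], [51], [51], [51], [51], [51], [51], [51], [51, 71], [51, 70, 71], [51], [51], [51], [51], [51], [51], [51], [51], [51], [51], [51]]

/-- row 52 -/
def aRow52 : List (List ℕ) := [[52, 54], [52, 55], [52], [52], [52], [52], [52, 56], [52, 57], [52], [52], [52, 60], [52, 61], [52], [52], [52, 62], [52, 63], [52], [52], [52, 66], [52, 67], [52], [52], [52], [52], [52], [52], [52], [52], [52], [52], [52], [52], [52], [52], [52], [52], [52, 70], [52, 71], [52], [52], [52], [52], [52], [52], [52], [52], [52], [52], [52], [52], [52], [52]]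

/-- row 53 -/
def aRow53 : List (List ℕ) := [[53, 55], [53, 54, 55], [53], [53], [53], [53], [53, 57], [53, 56, 57], [53], [53], [53, 61], [53, 60, 61], [53], [53], [53, 63], [53, 62, 63], [53], [53], [53, 67], [53, 66, 67], [53], [53], [53], [53], [53], [53], [53], [53], [53], [53], [53], [53], [53], [53], [53], [53], [53, 71], [53, 70, 71], [53], [53], [53], [53], [53], [53], [53], [53], [53], [53], [53], [53], [53], [53], [53]]

/-- row 54 -/
def aRow54 : List (List ℕ) := [[54], [54], [54], [54], [54], [54], [54, 58], [54, 59], [54, 60], [54, 61], [54], [54], [54], [54], [54, 64], [54, 65], [54, 66], [54, 67], [54], [54], [54], [54], [54], [54], [54], [54], [54], [54], [54], [54], [54], [54], [54], [54], [54, 70], [54, 71], [54], [54], [54], [54], [54], [54], [54], [54], [54], [54], [54], [54], [54], [54], [54], [54], [54], [54]]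

/-- row 55 -/
def aRow55 : List (List ℕ) := [[55], [55], [55], [55], [55], [55], [55, 59], [55, 58, 59], [55, 61], [55, 60, 61], [55], [55], [55], [55], [55, 65], [55, 64, 65], [55, 67], [55, 66, 67], [55], [55], [55], [55], [55], [55], [55], [55], [55], [55], [55], [55], [55], [55], [55], [55], [55, 71], [55, 70, 71], [55], [55], [55], [55], [55], [55], [55], [55], [55], [55], [55], [55], [55], [55], [55], [55], [55], [55], [55]]

/-- row 56 -/
def aRow56 : List (List ℕ) := [[56, 58], [56, 59], [56], [56], [56, 60], [56, 61], [56], [56], [56], [56], [56], [56], [56, 62], [56, 63], [56], [56], [56], [56], [56, 68], [56, 69], [56], [56], [56], [56], [56], [56], [56], [56], [56], [56], [56], [56], [56, 70], [56, 71], [56], [56], [56], [56], [56], [56], [56], [56], [56], [56], [56], [56], [56], [56], [56], [56], [56], [56], [56], [56], [56], [56]]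

/-- row 57 -/
def aRow57 : List (List ℕ) := [[57, 59], [57, 58, 59], [57], [57], [57, 61], [57, 60, 61], [57], [57], [57], [57], [57], [57], [57, 63], [57, 62, 63], [57], [57], [57], [57], [57, 69], [57, 68, 69], [57], [57], [57], [57], [57], [57], [57], [57], [57], [57], [57], [57], [57, 71], [57, 70, 71], [57], [57], [57], [57], [57], [57], [57], [57], [57], [57], [57], [57], [57], [57], [57], [57], [57], [57], [57], [57], [57], [57], [57]]

/-- row 58 -/
def aRow58 : List (List ℕ) := [[58], [58], [58, 60], [58, 61], [58], [58], [58], [58], [58], [58], [58], [58], [58, 64], [58, 65], [58], [58], [58, 68], [58, 69], [58], [58], [58], [58], [58], [58], [58], [58], [58], [58], [58], [58], [58, 70], [58, 71], [58], [58], [58], [58], [58], [58], [58], [58], [58], [58], [58], [58], [58], [58], [58], [58], [58], [58], [58], [58], [58], [58], [58], [58], [58], [58]]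

/-- row 59 -/
def aRow59 : List (List ℕ) := [[59], [59], [59, 61], [59, 60, 61], [59], [59], [59], [59], [59], [59], [59], [59], [59, 65], [59, 64, 65], [59], [59], [59, 69], [59, 68, 69], [59], [59], [59], [59], [59], [59], [59], [59], [59], [59], [59], [59], [59, 71], [59, 70, 71], [59], [59], [59], [59], [59], [59], [59], [59], [59], [59], [59], [59], [59], [59], [59], [59], [59], [59], [59], [59], [59], [59], [59], [59], [59], [59], [59]]

/-- row 60 -/
def aRow60 : List (List ℕ) := [[60], [60], [60], [60], [60], [60], [60], [60], [60], [60], [60], [60], [60, 66], [60, 67], [60, 68], [60, 69], [60], [60], [60], [60], [60], [60], [60], [60], [60], [60], [60], [60], [60, 70], [60, 71], [60], [60], [60], [60], [60], [60], [60], [60], [60], [60], [60], [60], [60], [60], [60], [60], [60], [60], [60], [60], [60], [60], [60], [60], [60], [60], [60], [60], [60], [60]]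

/-- row 61 -/
def aRow61 : List (List ℕ) := [[61], [61], [61], [61], [61], [61], [61], [61], [61], [61], [61], [61], [61, 67], [61, 66, 67], [61, 69], [61, 68, 69], [61], [61], [61], [61], [61], [61], [61], [61], [61], [61], [61], [61], [61, 71], [61, 70, 71], [61], [61], [61], [61], [61], [61], [61], [61], [61], [61], [61], [61], [61], [61], [61], [61], [61], [61], [61], [61], [61], [61], [61], [61], [61], [61], [61], [61], [61], [61], [61]]

/-- row 62 -/
def aRow62 : List (List ℕ) := [[62, 64], [62, 65], [62], [62], [62, 66], [62, 67], [62], [62], [62], [62], [62, 68], [62, 69], [62], [62], [62], [62], [62], [62], [62], [62], [62], [62], [62], [62], [62], [62], [62, 70], [62, 71], [62], [62], [62], [62], [62], [62], [62], [62], [62], [62], [62], [62], [62], [62], [62], [62], [62], [62], [62], [62], [62], [62], [62], [62], [62], [62], [62], [62], [62], [62], [62], [62], [62], [62]]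

/-- row 63 -/
def aRow63 : List (List ℕ) := [[63, 65], [63, 64, 65], [63], [63], [63, 67], [63, 66, 67], [63], [63], [63], [63], [63, 69], [63, 68, 69], [63], [63], [63], [63], [63], [63], [63], [63], [63], [63], [63], [63], [63], [63], [63, 71], [63, 70, 71], [63], [63], [63], [63], [63], [63], [63], [63], [63], [63], [63], [63], [63], [63], [63], [63], [63], [63], [63], [63], [63], [63], [63], [63], [63], [63], [63], [63], [63], [63], [63], [63], [63], [63], [63]]

/-- row 64 -/
def aRow64 : List (List ℕ) := [[64], [64], [64, 66], [64, 67], [64], [64], [64], [64], [64, 68], [64, 69], [64], [64], [64], [64], [64], [64], [64], [64], [64], [64], [64], [64], [64], [64], [64, 70], [64, 71], [64], [64], [64], [64], [64], [64], [64], [64], [64], [64], [64], [64], [64], [64], [64], [64], [64], [64], [64], [64], [64], [64], [64], [64], [64], [64], [64], [64], [64], [64], [64], [64], [64], [64], [64], [64], [64], [64]]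

/-- row 65 -/
def aRow65 : List (List ℕ) := [[65], [65], [65, 67], [65, 66, 67], [65], [65], [65], [65], [65, 69], [65, 68, 69], [65], [65], [65], [65], [65], [65], [65], [65], [65], [65], [65], [65], [65], [65], [65, 71], [65, 70, 71], [65], [65], [65], [65], [65], [65], [65], [65], [65], [65], [65], [65], [65], [65], [65], [65], [65], [65], [65], [65], [65], [65], [65], [65], [65], [65], [65], [65], [65], [65], [65], [65], [65], [65], [65], [65], [65], [65], [65]]

/-- row 66 -/
def aRow66 : List (List ℕ) := [[66], [66], [66], [66], [66], [66], [66, 68], [66, 69], [66], [66], [66], [66], [66], [66], [66], [66], [66], [66], [66], [66], [66], [66], [66, 70], [66, 71], [66], [66], [66], [66], [66], [66], [66], [66], [66], [66], [66], [66], [66], [66], [66], [66], [66], [66], [66], [66], [66], [66], [66], [66], [66], [66], [66], [66], [66], [66], [66], [66], [66], [66], [66], [66], [66], [66], [66], [66], [66], [66]]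

/-- row 67 -/
def aRow67 : List (List ℕ) := [[67], [67], [67], [67], [67], [67], [67, 69], [67, 68, 69], [67], [67], [67], [67], [67], [67], [67], [67], [67], [67], [67], [67], [67], [67], [67, 71], [67, 70, 71], [67], [67], [67], [67], [67], [67], [67], [67], [67], [67], [67], [67], [67], [67], [67], [67], [67], [67], [67], [67], [67], [67], [67], [67], [67], [67], [67], [67], [67], [67], [67], [67], [67], [67], [67], [67], [67], [67], [67], [67], [67], [67], [67]]

/-- row 68 -/
def aRow68 : List (List ℕ) := [[68], [68], [68], [68], [68], [68], [68], [68], [68], [68], [68], [68], [68], [68], [68], [68], [68], [68], [68], [68], [68, 70], [68, 71], [68], [68], [68], [68], [68], [68], [68], [68], [68], [68], [68], [68], [68], [68], [68], [68], [68], [68], [68], [68], [68], [68], [68], [68], [68], [68], [68], [68], [68], [68], [68], [68], [68], [68], [68], [68], [68], [68], [68], [68], [68], [68], [68], [68], [68], [68]]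

/-- row 69 -/
def aRow69 : List (List ℕ) := [[69], [69], [69], [69], [69], [69], [69], [69], [69], [69], [69], [69], [69], [69], [69], [69], [69], [69], [69], [69], [69, 71], [69, 70, 71], [69], [69], [69], [69], [69], [69], [69], [69], [69], [69], [69], [69], [69], [69], [69], [69], [69], [69], [69], [69], [69], [69], [69], [69], [69], [69], [69], [69], [69], [69], [69], [69], [69], [69], [69], [69], [69], [69], [69], [69], [69], [69], [69], [69], [69], [69], [69]]

/-- row 70 -/
def aRow70 : List (List ℕ) := [[70], [70], [70], [70], [70], [70], [70], [70], [70], [70], [70], [70], [70], [70], [70], [70], [70], [70], [70], [70], [70], [70], [70], [70], [70], [70], [70], [70], [70], [70], [70], [70], [70], [70], [70], [70], [70], [70], [70], [70], [70], [70], [70], [70], [70], [70], [70], [70], [70], [70], [70], [70], [70], [70], [70], [70], [70], [70], [70], [70], [70], [70], [70], [70], [70], [70], [70], [70], [70], [70]]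

/-- row 71 -/
def aRow71 : List (List ℕ) := [[71], [71], [71], [71], [71], [71], [71], [71], [71], [71], [71], [71], [71], [71], [71], [71], [71], [71], [71], [71], [71], [71], [71], [71], [71], [71], [71], [71], [71], [71], [71], [71], [71], [71], [71], [71], [71], [71], [71], [71], [71], [71], [71], [71], [71], [71], [71], [71], [71], [71], [71], [71], [71], [71], [71], [71], [71], [71], [71], [71], [71], [71], [71], [71], [71], [71], [71], [71], [71], [71], [71]]

/-- The untwisted table. -/
def tabA : Tab := ⟨72, [aRow0, aRow1, aRow2, aRow3, aRow4, aRow5, aRow6, aRow7, aRow8, aRow9, aRow10, aRow11, aRow12, aRow13, aRow14, aRow15, aRow16, aRow17, aRow18, aRow19, aRow20, aRow21, aRow22, aRow23, aRow24, aRow25, aRow26, aRow27, aRow28, aRow29, aRow30, aRow31, aRow32, aRow33, aRow34, aRow35, aRow36, aRow37, aRow38, aRow39, aRow40, aRow41, aRow42, aRow43, aRow44, aRow45, aRow46, aRow47, aRow48, aRow49, aRow50, aRow51, aRow52, aRow53, aRow54, aRow55, aRow56, aRow57, aRow58, aRow59, aRow60,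 aRow61, aRow62, aRow63, aRow64, aRow65, aRow66, aRow67, aRow68, aRow69, aRow70, aRow71]⟩

/-- Twisted generators as untwisted words. -/
def twW : List (List ℕ) := [[0, 40], [1, 40, 41], [2, 12], [3, 12, 13], [4, 42], [5, 42, 43], [6], [8, 14], [9, 14, 15], [10, 44], [11, 44, 45], [16], [18, 46], [19, 46, 47], [20], [22], [24, 28], [25, 28, 29], [26, 50], [27, 50, 51], [30], [32, 52], [33, 52, 53], [34], [36, 56], [37, 56, 57], [38, 62], [39, 62, 63], [48], [54], [58], [60, 64], [61, 64, 65], [66], [68], [70]]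

/-- Root and parameter code of a twisted generator. -/
def twRt : List (ℕ × ℕ) := [(36, 1), (36, 2), (37, 1), (37, 2), (38, 1), (38, 2), (39, 1), (40, 1), (40, 2), (41, 1), (41, 2), (44, 1), (45, 1), (45, 2), (46, 1), (47, 1), (48, 1), (48, 2), (49, 1), (49, 2), (51, 1), (52, 1), (52, 2), (53, 1), (54, 1), (54, 2), (55, 1), (55, 2), (60, 1), (63, 1), (65, 1), (66, 1), (66, 2), (69, 1), (70, 1), (71, 1)]

/-- Images of the generators under the simple reflections and a torus element. -/
def imgW : List (List (List ℕ)) := [[[0], [1], [2], [3], [4], [5], [15], [16], [17], [18], [19], [20], [21], [22], [], [6], [7], [8], [9], [10], [11], [12], [13], [23], [24], [25], [26], [27], [29], [28], [30], [31], [32], [33], [35], [34]], [[0], [1], [7], [8], [9], [10], [], [2], [3], [4], [5], [11], [12], [13], [15], [14], [16], [17], [18], [19], [23], [24], [25], [20], [21], [22], [26], [27], [28], [30], [29], [31], [32], [34], [33], [35]], [[4], [5], [], [], [0], [1], [11], [7], [7, 8], [12], [13], [6],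 [9], [10], [14], [20], [16], [16, 17], [21], [22], [15], [18], [19], [23], [26], [27], [24], [25], [28], [29], [33], [31], [31, 32], [30], [34], [35]], [[], [], [4], [5], [2], [3], [6], [9], [10], [7], [8], [28], [12], [12, 13], [14], [15], [18], [19], [16], [17], [29], [21], [21, 22], [30], [24], [24, 25], [31], [32], [11], [20], [23], [26], [27], [33], [34], [35]], [[1], [0, 1], [3], [2, 3], [4, 5], [4], [6], [8], [7, 8], [9, 10], [9], [11], [13], [12, 13], [14], [15], [17], [16, 17], [18, 19], [18], [20], [22], [21, 22], [23], [25], [24, 25], [26, 27], [26], [28], [29], [30], [32], [31, 32], [33], [34], [35]]]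

/-- The generators moved by a kind. -/
def keepL : List (List ℕ) := [[1, 1, 1, 1, 1, 1, 1, 1, 1, 1, 1, 1, 1, 1, 0, 1, 1, 1, 1, 1, 1, 1, 1, 1, 1, 1, 1, 1, 1, 1, 1, 1, 1, 1, 1, 1], [1, 1, 1, 1, 1, 1, 0, 1, 1, 1, 1, 1, 1, 1, 1, 1, 1, 1, 1, 1, 1, 1, 1, 1, 1, 1, 1, 1, 1, 1, 1, 1, 1, 1, 1, 1], [1, 1, 0, 0, 1, 1, 1, 1, 1, 1, 1, 1, 1, 1, 1, 1, 1, 1, 1, 1, 1, 1, 1, 1, 1, 1, 1, 1, 1, 1, 1, 1, 1, 1, 1, 1], [0, 0, 1, 1, 1, 1, 1, 1, 1, 1, 1, 1, 1, 1, 1, 1, 1, 1, 1, 1, 1, 1, 1, 1, 1, 1, 1, 1, 1, 1, 1, 1, 1, 1, 1, 1], [1, 1, 1, 1, 1, 1, 1, 1, 1, 1, 1, 1, 1, 1, 1, 1, 1, 1, 1, 1, 1, 1, 1, 1, 1, 1, 1, 1, 1, 1, 1, 1, 1, 1, 1, 1]]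

/-- Shifts of the class. -/
def shiftL : List (List ℕ) := [[0, 0, 0, 0, 0, 0, 0, 0, 0, 0, 0, 0, 0, 0, 0, 0, 0, 0, 0, 0, 0, 0, 0, 0, 0, 0, 0, 0, 0, 0, 0, 0, 0, 0, 0, 0], [0, 0, 0, 0, 0, 0, 0, 0, 0, 0, 0, 0, 0, 0, 0, 0, 0, 0, 0, 0, 0, 0, 0, 0, 0, 0, 0, 0, 0, 0, 0, 0, 0, 0, 0, 0], [0, 0, 0, 0, 0, 0, 0, 0, 0, 0, 0, 0, 0, 0, 0, 0, 0, 0, 0, 0, 0, 0, 0, 0, 0, 0, 0, 0, 0, 0, 0, 0, 1, 0, 0, 0], [0, 0, 0, 0, 0, 0, 0, 1, 2, 1, 2, 0, 0, 1, 0, 0, 1, 2, 1, 2, 0, 0, 1, 0, 0, 1, 0, 1, 0, 0, 0, 0, 1, 0, 0, 0], [0, 0, 0, 0, 2, 3, 0, 0, 0, 2, 3, 0, 3, 1, 0, 0, 0, 0, 2, 3, 0, 3, 1, 0, 3, 1, 2, 3, 0, 0, 0, 2, 1, 0, 0, 0]]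

/-- The class on the relations. -/
def clsL : List ℕ := [0, 0, 0, 0, 0, 0, 0, 0, 0, 0, 0, 0, 0, 0, 0, 0, 0, 0, 0, 0, 0, 0, 0, 0, 0, 0, 0, 0, 0, 0, 0, 0, 0, 0, 0, 0, 0, 0, 0, 1, 2, 0, 0, 0, 0, 0, 0, 0, 0, 0, 0, 0, 0, 0, 0, 1, 2, 0, 0, 0, 0, 0, 0, 0, 1, 2, 0, 0, 1, 2, 0, 0, 0, 0, 0, 1, 0, 0, 0, 0, 0, 0, 0, 0, 2, 0, 0, 0, 0, 0, 0, 1, 2, 0, 0, 0, 0, 0, 0, 0, 0, 0, 0, 0, 0, 0, 0, 0, 0, 0, 0, 0, 0, 0, 0, 0, 0, 0, 0, 0, 0, 0, 0, 0, 0, 0, 0, 0, 0, 0, 0, 0, 0, 0, 0, 0, 1, 2, 0, 1, 2, 0, 0, 0, 0, 1, 2, 0, 0, 0, 0, 0, 0, 1, 2, 0, 0, 0, 0, 0, 0, 0, 0, 0, 0, 0, 0, 0, 0, 0, 0, 0, 1, 2, 0, 0, 1, 2, 0, 0, 0, 1, 2, 0, 1, 2, 0, 0, 0, 0, 0, 0, 1, 0, 0, 0, 0, 1, 0, 0, 1, 0, 1, 0, 0, 0, 0, 0, 0, 0, 2, 0, 0, 0, 0, 2, 0, 0, 2, 0, 3, 0, 0, 0, 0, 0, 1, 2, 0, 0, 0, 0, 0, 0, 0, 1, 2, 0, 0, 0, 0, 0, 0, 0, 0, 0, 0, 0, 0, 0, 0, 0, 1, 0, 1, 0, 0, 0, 0, 0, 0, 0, 0, 0, 0, 0, 0, 0, 0, 0, 0, 0, 0, 2, 0, 2, 1, 3, 0, 0, 0, 0, 0, 0, 0, 0, 0, 0, 0, 1, 2, 0, 0, 1, 2, 0, 0, 0, 0, 0, 0, 0, 0, 0, 0, 0, 0, 0, 0, 0, 0, 0, 0, 0, 0,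 1, 0, 0, 0, 0, 0, 0, 0, 0, 0, 0, 0, 0, 0, 0, 0, 0, 0, 0, 0, 0, 0, 0, 0, 2, 1, 3, 0, 0, 0, 0, 0, 0, 0, 0, 0, 0, 0, 0, 0, 0, 0, 0, 0, 0, 0, 0, 1, 0, 0, 0, 0, 0, 0, 0, 0, 0, 0, 0, 0, 0, 0, 0, 0, 0, 0, 0, 0, 0, 0, 0, 0, 0, 3, 0, 0, 0, 0, 0, 0, 0, 0, 0, 0, 0, 0, 0, 0, 0, 0, 0, 0, 0, 0, 0, 0, 0, 0, 0, 0, 0, 0, 0, 0, 0, 0, 0, 0, 0, 0, 0, 0, 0, 0, 0, 1, 3, 0, 0, 0, 0, 0, 0, 0, 0, 0, 0, 0, 0, 0, 0, 0, 0, 0, 1, 3, 0, 0, 0, 0, 0, 0, 0, 0, 0, 0, 0, 0, 0, 0, 0, 0, 0, 0, 0, 0, 0, 0, 1, 3, 0, 0, 0, 0, 0, 0, 0, 0, 0, 0, 0, 0, 0, 0, 0, 0, 0, 0, 0, 0, 0, 0, 0, 0, 0, 0, 0, 0, 0, 0, 0, 0, 0, 0, 0, 0, 0, 0, 0, 0, 0, 0, 0, 0, 0, 0, 0, 0, 0, 0, 0, 0, 0, 0, 0, 0, 0, 0, 0, 0, 0, 0, 0, 0, 0, 0, 0, 0, 0, 0, 0, 0, 0, 0, 0, 0, 0, 0, 0, 0, 0, 0, 0, 0, 0, 0, 0, 0, 0, 0, 0, 0, 0, 0, 0, 0, 0, 0, 0, 0, 0, 0, 0, 0, 0, 0, 0, 0, 0, 0, 0, 0, 0, 0, 0, 0, 0, 0, 0, 0, 0, 0, 0, 0, 0, 0, 0, 0, 0, 0, 0, 0, 0, 0, 0, 0, 0, 0, 0, 0, 0, 0, 0, 0, 0, 0, 0, 0, 0, 0, 0, 0, 0, 0, 0, 0, 0, 0, 0, 0, 0, 0, 0, 0, 0, 0, 0, 0, 0, 0, 0, 0, 0, 0, 0,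 0, 0, 0, 0, 0, 0, 0, 0, 0, 0, 0, 0, 0, 0, 0, 0]

end CfsgLib.Known.E6TwoMult
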