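import Cfsg.Agent.Lib.Known.E6TwoMult.Levels
import Cfsg.Agent.Lib.Known.E6TwoMult.TableData

/-!
# Checks on the class of the unipotent group (owner: helper6)
-/

set_option autoImplicit false

namespace CfsgLib.Known.E6TwoMult

open Tab

/-- All generators. -/
def allG : ℕ → Bool := fun _ => true

/-- The generators moved by kind `k`: all for the torus element, the radical for a reflection. -/
def keepF (k j : ℕ) : Bool := Nat.beq ((keepL.getD k []).getD j 0) 1

/-- The fuel. -/
def fuel : ℕ := 64

/-- The class vanishes on a list of tails. -/
def tzC (t : List ℕ) : Bool := Nat.beq (t.foldr (fun e r => (clsL.getD e 0).xor r) 0) 0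

/-- The image of a generator. -/
def img (k g : ℕ) : List ℕ := (imgW.getD k []).getD g []

/-- The shift of a generator, as tails with the same class. -/
def shf (k g : ℕ) : ℕ := (shiftL.getD k []).getD g 0

/-- The class of shifts and tails vanishes. -/
def tzS (k : ℕ) (gs t : List ℕ) : Bool :=
  Nat.beq ((gs.foldr (fun g r => (shf k g).xor r) 0).xor (t.foldr (fun e r => (clsL.getD e 0).xor r) 0)) 0

/-- The images of kind `k` satisfy the relations with the same class. -/
def autChk (k : ℕ) : Bool :=
  (List.range 36).all fun i => !tabU.lev (keepF k) 0 i ||
    ((let u := tabU.collect (tabU.lev allG 0) fuel (img k i ++ img k i)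
      u.1.isEmpty && tzS k [] (u.2 ++ [i])) &&
      (List.range i).all fun x => !tabU.lev (keepF k) 0 x ||
        (let u := tabU.collect (tabU.lev allG 0) fuel (img k i ++ img k x)
         let v := tabU.collect (tabU.lev allG 0) fuel (img k x ++ (tabU.rst i x).flatMap (img k))
         u.1 == v.1 && tzS k ([i, x] ++ (x :: tabU.rst i x)) (u.2 ++ v.2 ++ [tabU.pid i x])))

theorem cls_sq : ((List.range 36).all fun x => Nat.beq (clsL.getD x 0) 0) = true := by decide +kernel

theorem cls_lt : (clsL.all fun c => Nat.blt c 4) = true ∧ (shiftL.all fun l => l.all fun c => Nat.blt c 4) = true := by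
  decide +kernel

theorem step_all : ((List.range 36).all fun k => tabU.stepChk allG tzC fuel k) = true := by decide +kernel

theorem step_keep : ((List.range 5).all fun s => (List.range 36).all fun k =>
    !keepF s k || tabU.stepChk (keepF s) tzC fuel k) = true := by decide +kernel

theorem aut_all : ((List.range 5).all fun k => autChk k) = true := by decide +kernel

end CfsgLib.Known.E6TwoMult
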