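import Mathlib

/-!
# Collection in groups generated by ordered involutions, with central tails (owner: helper6)

A table gives, for `x < i`, a word `rest i x` with `a i * a x = a x * rest i x * d (pid i x)`, and
`a x * a x = d x`. Collection returns a word and the list of tails used; it needs no sortedness to be sound.
-/

set_option autoImplicit false

namespace CfsgLib.Known.E6TwoMult

/-- A table of relations. -/
structure Tab where
  n : ℕ
  rest : List (List (List ℕ))

namespace Tab

variable (T : Tab)

/-- The word of a pair. -/
def rst (i x : ℕ) : List ℕ := (T.rest.getD i []).getD x []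

/-- The tail of a pair `x < i`. -/
def pid (i x : ℕ) : ℕ := T.n + (i * (i - 1) / 2 + x)

/-- Insertion of a generator on the left of a word. -/
def ins (P : ℕ → Bool) : ℕ → ℕ → List ℕ → List ℕ × List ℕ
  | 0, i, l => (i :: l, [])
  | _ + 1, i, [] => ([i], [])
  | f + 1, i, x :: r =>
    bif Nat.blt i x || !P x || !P i || !Nat.blt i T.n then (i :: x :: r, [])
    else bif Nat.beq i x then (r, [x])
    else
      let s := (T.rst i x).foldr (fun j st => ((ins P f j st.1).1, (ins P f j st.1).2 ++ st.2)) (r, [])
      (x :: s.1, T.pid i x :: s.2)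

/-- Collection of a word. -/
def collect (P : ℕ → Bool) (f : ℕ) (w : List ℕ) : List ℕ × List ℕ :=
  w.foldr (fun j st => ((T.ins P f j st.1).1, (T.ins P f j st.1).2 ++ st.2)) ([], [])

variable {G : Type*} [Group G]

/-- The relations hold inside `P`. -/
structure Holds (P : ℕ → Bool) (a d : ℕ → G) : Prop where
  central : ∀ k g, d k * g = g * d k
  sq : ∀ x, P x = true → x < T.n → a x * a x = d x
  comm : ∀ i x, P x = true → P i = true → x < i → i < T.n → a i * a x = a x * ((T.rst i x).map a).prod * d (T.pid i x)

variable {T} {P : ℕ → Bool} {a d : ℕ → G}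

theorem Holds.dprod_comm (H : T.Holds P a d) (t : List ℕ) (g : G) : (t.map d).prod * g = g * (t.map d).prod := by
  induction t with
  | nil => simp
  | cons k t ih => rw [List.map_cons, List.prod_cons, mul_assoc, ih, ← mul_assoc, H.central, mul_assoc]

theorem Holds.fold_spec (H : T.Holds P a d) (g : ℕ → List ℕ → List ℕ × List ℕ)
    (hg : ∀ j l, a j * (l.map a).prod = ((g j l).1.map a).prod * ((g j l).2.map d).prod) :
    ∀ (w l : List ℕ), (w.map a).prod * (l.map a).prod =
      ((w.foldr (fun j st => ((g j st.1).1, (g j st.1).2 ++ st.2)) (l, [])).1.map a).prod *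
        ((w.foldr (fun j st => ((g j st.1).1, (g j st.1).2 ++ st.2)) (l, [])).2.map d).prod
  | [], l => by simp
  | j :: w, l => by
    rw [List.map_cons, List.prod_cons, mul_assoc, H.fold_spec g hg w l, List.foldr_cons]
    simp only [List.map_append, List.prod_append]
    rw [← mul_assoc, hg, mul_assoc]

theorem Holds.ins_spec (H : T.Holds P a d) : ∀ (f i : ℕ) (l : List ℕ),
    a i * (l.map a).prod = ((T.ins P f i l).1.map a).prod * ((T.ins P f i l).2.map d).prod
  | 0, i, l => by simp [ins]
  | f + 1, i, [] => by simp [ins]
  | f + 1, i, x :: r => by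
    rw [ins]
    cases hc : (Nat.blt i x || !P x || !P i || !Nat.blt i T.n)
    · simp only [Bool.or_eq_false_iff, Bool.not_eq_false', Nat.blt_eq] at hc
      obtain ⟨⟨⟨h1, h2⟩, h2'⟩, h3⟩ := hc
      have hx : x ≤ i := Nat.le_of_not_lt fun h => by
        have h' : Nat.blt i x = true := Nat.blt_eq.mpr h
        rw [h'] at h1; exact Bool.noConfusion h1
      cases he : Nat.beq i x
      · have hlt : x < i := lt_of_le_of_ne hx fun e => by rw [e, Nat.beq_refl] at he; exact Bool.noConfusion he
        simp only [cond_false, List.map_cons, List.prod_cons]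
        rw [← mul_assoc, H.comm i x h2 h2' hlt h3, mul_assoc, H.central, mul_assoc (a x),
          ← mul_assoc ((T.rst i x).map a).prod, H.fold_spec _ (fun j l => H.ins_spec f j l) (T.rst i x) r,
          mul_assoc, mul_assoc, ← H.central]
      · obtain rfl := Nat.eq_of_beq_eq_true he
        simp only [cond_false, cond_true, List.map_cons, List.map_nil, List.prod_cons, List.prod_nil, mul_one]
        rw [← mul_assoc, H.sq i h2' h3, H.central]
    · simp

theorem Holds.collect_spec (H : T.Holds P a d) (f : ℕ) (w : List ℕ) :
    (w.map a).prod = ((T.collect P f w).1.map a).prod * ((T.collect P f w).2.map d).prod := by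
  have := H.fold_spec _ (fun j l => H.ins_spec f j l) w []
  simpa [collect] using this

/-- Two words collecting to the same word differ by their tails. -/
theorem Holds.eq_of_collect (H : T.Holds P a d) (f : ℕ) {u v : List ℕ}
    (h : (T.collect P f u).1 = (T.collect P f v).1) :
    (u.map a).prod * ((T.collect P f v).2.map d).prod = (v.map a).prod * ((T.collect P f u).2.map d).prod := by
  rw [H.collect_spec f u, H.collect_spec f v, h, mul_assoc, mul_assoc, H.dprod_comm]

end Tab

end CfsgLib.Known.E6TwoMult
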