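import Cfsg.Agent.Lib.Known.E6TwoMult.CertChecks

/-!
# Evaluation of exponent planes in an abelian group of exponent four (owner: helper6)
-/

set_option autoImplicit false

namespace CfsgLib.Known.E6TwoMult

universe u

variable {A : Type u} [CommGroup A] (v : ℕ → A)

/-- The exponent at a position. -/
def pexp (p : ℕ × ℕ) (i : ℕ) : ℕ :=
  (bif p.1.testBit i then 1 else 0) + (bif p.2.testBit i then 2 else 0)

/-- The value of a vector. -/
def ev (p : ℕ × ℕ) : A := ∏ i ∈ Finset.range nvar, v i ^ pexp p i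

theorem ev_zero : ev v (0, 0) = 1 := by simp [ev, pexp]

theorem ev_vone {i : ℕ} (hi : i < nvar) : ev v (vone i) = v i := by
  rw [ev, Finset.prod_eq_single i (fun j _ hj => by simp [pexp, vone, Nat.testBit_two_pow, Ne.symm hj])
    (fun h => absurd (Finset.mem_range.2 hi) h)]
  simp [pexp, vone, Nat.testBit_two_pow]

variable (h4 : ∀ a : A, a ^ 4 = 1)

include h4 in
theorem ev_vadd (p q : ℕ × ℕ) : ev v (vadd p q) = ev v p * ev v q := by
  rw [ev, ev, ev, ← Finset.prod_mul_distrib]
  refine Finset.prod_congr rfl fun i _ => ?_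
  rw [← pow_add, pow_eq_pow_mod _ (h4 _)]
  conv_rhs => rw [pow_eq_pow_mod _ (h4 _)]
  congr 1
  simp only [pexp, vadd, Nat.testBit_xor, Nat.testBit_and]
  cases p.1.testBit i <;> cases q.1.testBit i <;> cases p.2.testBit i <;> cases q.2.testBit i <;> rfl

include h4 in
theorem ev_vneg (p : ℕ × ℕ) : ev v (vneg p) = (ev v p)⁻¹ := by
  refine eq_inv_of_mul_eq_one_left ?_
  rw [← ev_vadd v h4]
  have : vadd (vneg p) p = (0, 0) := by
    refine Prod.ext ?_ ?_
    · simp [vadd, vneg]
    · refine Nat.eq_of_testBit_eq fun i => ?_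
      simp only [vadd, vneg, Nat.testBit_xor, Nat.testBit_and, Nat.zero_testBit]
      cases p.1.testBit i <;> cases p.2.testBit i <;> rfl
  rw [this, ev_zero]

include h4 in
theorem ev_vlist : ∀ l : List ℕ, (∀ i ∈ l, i < nvar) → ev v (vlist l) = (l.map v).prod
  | [], _ => ev_zero v
  | i :: l, h => by
    rw [vlist, ev_vadd v h4, ev_vone v (h i List.mem_cons_self), ev_vlist l fun j hj => h j (List.mem_cons_of_mem _ hj)]
    rfl

include h4 in
theorem ev_combV : ∀ (es : List (ℕ × ℕ)) (lo hi : ℕ), (∀ e ∈ es, ev v e = 1) → ev v (combV lo hi es) = 1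
  | [], _, _, _ => ev_zero v
  | e :: es, lo, hi, h => by
    have e1 := h e List.mem_cons_self
    have e2 := ev_combV es (lo / 2) (hi / 2) fun x hx => h x (List.mem_cons_of_mem _ hx)
    rw [combV]
    cases Nat.beq (lo % 2) 1 <;> cases Nat.beq (hi % 2) 1 <;>
      simp only [cond_true, cond_false, ev_vadd v h4, e1, e2, one_mul]

include h4 in
theorem ev_foldr (f : ℕ → ℕ × ℕ) : ∀ l : List ℕ,
    ev v (l.foldr (fun g r => vadd (f g) r) (0, 0)) = (l.map fun g => ev v (f g)).prod
  | [] => ev_zero v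
  | g :: l => by rw [List.foldr_cons, ev_vadd v h4, ev_foldr f l]; rfl

end CfsgLib.Known.E6TwoMult
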