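import Cfsg.Agent.Lib.Known.E6TwoMult.Stable
import Cfsg.Agent.Lib.Lie.Twisted.E6Mult.Main
import Cfsg.Agent.Lib.Schur.StemProduct

/-!
# A stem extension of `2E6(2)` with kernel of order twelve (owner: helper6)
-/

set_option autoImplicit false
set_option linter.unusedSectionVars false
set_option maxRecDepth 20000

namespace CfsgLib.Known.E6TwoMult

open Tab
open Cfsg.Lie (chevE6)
open CfsgLib.Lie.Chev CfsgLib.Lie.Chev.TwGroups CfsgLib.PLocal CfsgLib.PLocal.RadTw
open CfsgLib.Schur.TransferCocycle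

universe u

/-- The products of the witnesses differ by the class. -/
def witChk (u v : List ℕ) (c : ℕ) : Bool :=
  u.all (Nat.blt · 36) && v.all (Nat.blt · 36) &&
    ((tabU.collect (tabU.lev allG 0) fuel (u ++ v)).1 == (tabU.collect (tabU.lev allG 0) fuel (v ++ u)).1 &&
      Nat.beq (((tabU.collect (tabU.lev allG 0) fuel (u ++ v)).2 ++
        (tabU.collect (tabU.lev allG 0) fuel (v ++ u)).2).foldr (fun e r => (clsL.getD e 0).xor r) 0) c)

theorem wit_one : witChk [0, 2] [1, 3] 1 = true := by decide +kernel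

theorem wit_two : witChk [2, 8] [5, 9] 2 = true := by decide +kernel

theorem wit_spec {u v : List ℕ} {c : ℕ} (h : witChk u v c = true) :
    (u.map aU).prod * (v.map aU).prod = ιU (enc c) * ((v.map aU).prod * (u.map aU).prod) := by
  simp only [witChk, Bool.and_eq_true, beq_iff_eq] at h
  obtain ⟨-, h1, h2⟩ := h
  have H : tabU.Holds (tabU.lev allG 0) aU fun e => ιU (dv e) := ut_lvl.holds
  have e := H.eq_of_collect fuel h1
  set A := (tabU.collect (tabU.lev allG 0) fuel (u ++ v)).2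
  set B := (tabU.collect (tabU.lev allG 0) fuel (v ++ u)).2
  have hι : ∀ t : List ℕ, (t.map fun e => ιU (dv e)).prod = ιU (t.map dv).prod := fun t => by
    rw [map_list_prod, List.map_map]; rfl
  rw [hι, hι, List.map_append, List.map_append, List.prod_append, List.prod_append] at e
  obtain ⟨-, hc⟩ := foldr_xor _ (getD_lt cls_lt.1) (A ++ B)
  rw [Nat.eq_of_beq_eq_true h2, List.map_append, List.prod_append] at hc
  change enc c = (A.map dv).prod * (B.map dv).prod at hc
  set U := (u.map aU).prod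
  set V := (v.map aU).prod
  rw [hc, map_mul]
  set a := ιU (A.map dv).prod
  set b := ιU (B.map dv).prod
  have hbb : b * b = 1 := by rw [← map_mul, v4_sq, map_one]
  calc U * V = U * V * b * b := by rw [mul_assoc, hbb, mul_one]
    _ = V * U * a * b := by rw [e]
    _ = _ := by rw [mul_assoc, ← map_mul, ut_lvl.cen]

variable {K : Type u} [Field K] [Fintype K] (hq : IsPrimePow 2) (hK : Fintype.card K = 2 ^ 2)

include hq hK in
theorem card_index : Odd (piU hq hK).range.index := by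
  have h1 := (piU hq hK).range.card_mul_index
  rw [range_piU, card_U1_eq, ← card_twisted certE6 twE6_le (twE6 hq hK) (twE6_P1 hq hK)] at h1
  have h2 := card_twE6 hq hK
  rw [← h1, show Nat.gcd 3 (2 + 1) = 3 from rfl] at h2
  have h3 : 3 * (U1 hq hK).index = E6Mult.ordX 2 := by
    refine Nat.eq_of_mul_eq_mul_left (pow_pos two_pos 36) ?_
    rw [E6Mult.ordX, mul_left_comm, h2]
    simp only [mul_assoc]
  rw [range_piU, Nat.odd_iff]
  have hodd : E6Mult.ordX 2 % 2 = 1 := by decide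
  omega

include hq hK in
theorem exists_two : ∃ (G : Type u) (_ : Group G) (_ : Finite G) (σ : G →* ↥(Tg hq hK)),
    Cfsg.IsStemExtension σ ∧ Nonempty (σ.ker ≃* Multiplicative (ZMod 2 × ZMod 2)) := by
  haveI := finite_Tg hq hK
  have hS : ∀ a ∈ ({((1 : ℕ), (0 : ℕ)), (2, 1)} : Set (ℕ × ℕ)).image
      (fun p => ((p.1 : ZMod 2), (p.2 : ZMod 2))), ∃ x y : UT,
      piU hq hK x * piU hq hK y = piU hq hK y * piU hq hK x ∧
        x * y = ιU (Multiplicative.ofAdd a) * (y * x) := by
    have key : ∀ {u v : List ℕ} {c : ℕ}, witChk u v c = true → ∀ a, enc c = Multiplicative.ofAdd a → ∃ x y : UT,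
        piU hq hK x * piU hq hK y = piU hq hK y * piU hq hK x ∧
          x * y = ιU (Multiplicative.ofAdd a) * (y * x) := fun h a ha => by
      have e := wit_spec h
      rw [ha] at e
      refine ⟨_, _, ?_, e⟩
      rw [← map_mul, ← map_mul, e, map_mul, piU_ι, one_mul]
    rintro _ ⟨p, hp, rfl⟩
    rcases hp with rfl | rfl
    · exact key wit_one _ (by decide)
    · exact key wit_two _ (by decide)
  obtain ⟨C, hC⟩ := exists_stem (A := ZMod 2 × ZMod 2) (π := piU hq hK) (ι := ιU) ιU_injective (ker_piU hq hK)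
    ut_lvl.cen (by decide) (card_index hq hK) (good_all hq hK) _ hS (by
      refine eq_top_iff.2 fun a _ => ?_
      have h1 : ((1 : ZMod 2), (0 : ZMod 2)) ∈ ({((1 : ℕ), (0 : ℕ)), (2, 1)} : Set (ℕ × ℕ)).image
          (fun p => ((p.1 : ZMod 2), (p.2 : ZMod 2))) := ⟨(1, 0), Or.inl rfl, by decide⟩
      have h2 : ((0 : ZMod 2), (1 : ZMod 2)) ∈ ({((1 : ℕ), (0 : ℕ)), (2, 1)} : Set (ℕ × ℕ)).image
          (fun p => ((p.1 : ZMod 2), (p.2 : ZMod 2))) := ⟨(2, 1), Or.inr rfl, by decide⟩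
      have : ∀ a : ZMod 2 × ZMod 2, a = 0 ∨ a = (1, 0) ∨ a = (0, 1) ∨ a = (1, 0) + (0, 1) := by decide
      rcases this a with rfl | rfl | rfl | rfl
      · exact zero_mem _
      · exact AddSubgroup.subset_closure h1
      · exact AddSubgroup.subset_closure h2
      · exact add_mem (AddSubgroup.subset_closure h1) (AddSubgroup.subset_closure h2))
  exact ⟨Ext C, inferInstance, inferInstance, Ext.proj, hC, ⟨Ext.kerEquiv⟩⟩

theorem stem_comp {G H I : Type*} [Group G] [Group H] [Group I] (e : H ≃* I) (σ : G →* H)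
    (h : Cfsg.IsStemExtension σ) : Cfsg.IsStemExtension (e.toMonoidHom.comp σ) ∧
      (e.toMonoidHom.comp σ).ker = σ.ker := by
  have hk : (e.toMonoidHom.comp σ).ker = σ.ker := by
    ext g
    rw [MonoidHom.mem_ker, MonoidHom.mem_ker]
    exact map_eq_one_iff e e.injective
  obtain ⟨h1, h2, h3⟩ := h
  exact ⟨⟨e.surjective.comp h1, hk.le.trans h2, hk.le.trans h3⟩, hk⟩

include hq hK in
/-- The stem extension with kernel of order twelve. -/
theorem exists_twelve : ∃ (G : Type u) (_ : Group G) (σ : G →* ↥(Cfsg.Lie.twistedE6 K 2)),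
    Cfsg.IsStemExtension σ ∧ Nonempty (σ.ker ≃* Multiplicative (ZMod 3 × ZMod 2 × ZMod 2)) := by
  haveI : Fact (Nat.Prime 2) := ⟨Nat.prime_two⟩
  haveI : CharP K 2 := CharTwo.of_one_ne_zero_of_two_eq_zero one_ne_zero (two_eq hK)
  obtain ⟨G, _, _, σ, hσ, ⟨e2⟩⟩ := exists_two hq hK
  haveI := E6Mult.cov_finite hq hK
  haveI := E6Mult.cker_isCyclic hq hK 2
  let e : ↥(Tg hq hK) ≃* ↥(Cfsg.Lie.twistedE6 K 2) := Subgroup.subgroupOfEquivOfLe (twE6_le (K := K) (q := 2))
  obtain ⟨s1, k1⟩ := stem_comp e σ hσ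
  obtain ⟨s2, k2⟩ := stem_comp e (E6Mult.covθ hq hK) ⟨E6Mult.covθ_surjective hq hK, E6Mult.cker_le_center hq hK,
    by rw [E6Mult.cov_perfect hq hK 2]; exact le_top⟩
  have c1 : Nat.card σ.ker = 4 := by
    rw [Nat.card_congr e2.toEquiv, Nat.card_congr Multiplicative.toAdd, Nat.card_prod, Nat.card_zmod]
  have c2 : Nat.card (E6Mult.covθ hq hK).ker = 3 := by rw [E6Mult.card_cker hq hK 2]; rfl
  refine ⟨_, inferInstance, _, CfsgLib.Schur.isStemExtension_fibreProduct _ _ s2 s1
    (by rw [k1, k2, c1, c2]; decide), ⟨(CfsgLib.Schur.fibreKerEquiv _ _).trans ?_⟩⟩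
  refine (MulEquiv.prodCongr ((MulEquiv.subgroupCongr k2).trans (mulEquivOfCyclicCardEq ?_))
    ((MulEquiv.subgroupCongr k1).trans e2)).trans
      (MulEquiv.prodMultiplicative (ZMod 3) (ZMod 2 × ZMod 2)).symm
  rw [c2, Nat.card_congr Multiplicative.toAdd, Nat.card_zmod]

end CfsgLib.Known.E6TwoMult
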