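import Cfsg.Agent.Lib.Known.E6TwoMult.ClassChecks
import Cfsg.Agent.Lib.PLocal.RadTw.Cells

/-!
# Checks tying the tables to the Chevalley datum (owner: helper6)
-/

set_option autoImplicit false

namespace CfsgLib.Known.E6TwoMult

open Tab
open Cfsg.Lie (chevE6)
open CfsgLib.PLocal.RadTw (bar gW)

/-- Codes of `{0, 1, w, w + 1}` as sets of untwisted generators of a root. -/
def codes (r c : ℕ) : List ℕ :=
  match c with
  | 1 => [2 * (r - 36)]
  | 2 => [2 * (r - 36) + 1]
  | 3 => [2 * (r - 36), 2 * (r - 36) + 1]
  | _ => []

/-- Product of codes. -/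
def mulC (a b : ℕ) : ℕ :=
  ([[0, 0, 0, 0], [0, 1, 2, 3], [0, 2, 3, 1], [0, 3, 1, 2]].getD a []).getD b 0

/-- The code of a generator. -/
def gcode (g : ℕ) : ℕ := g % 2 + 1

/-- The root of a generator. -/
def groot (g : ℕ) : ℕ := g / 2 + 36

/-- The commutator of two untwisted generators agrees with the table. -/
def commChk (g h : ℕ) : Bool :=
  bif Nat.beq (groot g) (groot h) then tabA.rst g h == [g]
  else !Nat.beq (groot g) (chevE6.neg (groot h)) &&
    match chevE6.commTerms (groot h) (groot g) with
    | [] => tabA.rst g h == [g]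
    | [(k, c, 1, 1)] => decide (c % 2 = 1) && Nat.ble 36 k && Nat.blt k 72 &&
        tabA.rst g h == g :: codes k (mulC (gcode h) (gcode g))
    | _ => false

/-- Rewriting of a word of twisted generators. -/
def unT (w : List ℕ) : List ℕ := w.flatMap fun g => twW.getD g []

/-- The twisted relations hold in the untwisted table. -/
def relChk : Bool :=
  (List.range 36).all fun i =>
    (tabA.collect (tabA.lev allG 0) fuel (unT [i, i])).1.isEmpty &&
      (List.range i).all fun x => (tabA.collect (tabA.lev allG 0) fuel (unT [i, x])).1 ==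
        (tabA.collect (tabA.lev allG 0) fuel (unT (x :: tabU.rst i x))).1

/-- The root of a twisted generator. -/
def tRoot (g : ℕ) : ℕ := (twRt.getD g (0, 0)).1

/-- The code of a twisted generator. -/
def tCode (g : ℕ) : ℕ := (twRt.getD g (0, 0)).2

/-- Twisted generators are root family elements. -/
def famChk : Bool :=
  (List.range 36).all fun g => Nat.ble 36 (tRoot g) && Nat.blt (tRoot g) 72 &&
    (Nat.beq (tCode g) 1 || Nat.beq (tCode g) 2) &&
    bif Nat.beq (bar (tRoot g)) (tRoot g) then Nat.beq (tCode g) 1 && twW.getD g [] == codes (tRoot g) 1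
    else Nat.ble 36 (bar (tRoot g)) && Nat.blt (bar (tRoot g)) 72 &&
      twW.getD g [] == codes (tRoot g) (tCode g) ++ codes (bar (tRoot g)) (mulC (tCode g) (tCode g))

/-- Every positive orbit has its generators. -/
def coverChk : Bool :=
  (List.range' 36 36).all fun r =>
    let r0 := bif Nat.ble r (bar r) then r else bar r
    (List.range 36).any (fun g => Nat.beq (tRoot g) r0 && Nat.beq (tCode g) 1) &&
      (Nat.beq (bar r) r || (List.range 36).any fun g => Nat.beq (tRoot g) r0 && Nat.beq (tCode g) 2)

/-- The exponent of the torus element on a root, modulo three. -/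
def texp (r : ℕ) : ℕ := ((chevE6.cartan 0 r + 2 * chevE6.cartan 5 r) % 3).toNat

/-- The powers of `w`. -/
def powC (n : ℕ) : ℕ := [1, 2, 3].getD (n % 3) 0

/-- The image of an untwisted generator. -/
def mv (k g : ℕ) : List ℕ :=
  bif Nat.beq k 4 then codes (groot g) (mulC (powC (texp (groot g))) (gcode g))
  else codes (gW k (groot g)) (gcode g)

/-- The images are the conjugates. -/
def conjChk (k : ℕ) : Bool :=
  (List.range 36).all fun g => !keepF k g ||
    ((twW.getD g []).all (fun e => Nat.beq k 4 || (Nat.ble 36 (gW k (groot e)) && Nat.blt (gW k (groot e)) 72)) &&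
      (tabA.collect (tabA.lev allG 0) fuel ((twW.getD g []).flatMap (mv k))).1 ==
        (tabA.collect (tabA.lev allG 0) fuel (unT (img k g))).1)

theorem comm_all : ((List.range 72).all fun g => (List.range g).all fun h => commChk g h) = true := by decide +kernel

theorem rel_all : relChk = true := by decide +kernel

theorem fam_all : famChk = true := by decide +kernel

theorem cover_all : coverChk = true := by decide +kernel

theorem conj_all : ((List.range 5).all fun k => conjChk k) = true := by decide +kernel

end CfsgLib.Known.E6TwoMult
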