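import Cfsg.Agent.Lib.Known.E6TwoMult.Model
import Cfsg.Agent.Lib.Known.E6TwoMult.GroupChecks
import Cfsg.Agent.Lib.Lie.Twisted.E6Mult.Cover
import Cfsg.Agent.Lib.Lie.Twisted.E6Torus
import Cfsg.Agent.Lib.Lie.Twisted.Count

/-!
# The unipotent group of `2E6(2)` as the quotient of the table group (owner: helper6)
-/

set_option autoImplicit false
set_option linter.unusedSectionVars false
set_option maxRecDepth 20000

namespace CfsgLib.Known.E6TwoMult

open Tab
open Cfsg.Lie (chevE6)
open CfsgLib.Lie.Chev CfsgLib.Lie.Chev.TwGroups CfsgLib.PLocal CfsgLib.PLocal.RadTw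

universe u

/-- The universal property of the table group in any universe. -/
theorem univ_finite {X : Type u} [Group X] [Finite X] (b : ℕ → X) (j : V4 →* X) (hj : ∀ z g, j z * g = g * j z)
    (hb : tabU.Holds (tabU.lev allG 0) b fun e => j (dv e)) :
    ∃ f : UT →* X, (∀ i, i < 36 → f (aU i) = b i) ∧ ∀ z, f (ιU z) = j z := by
  let e : Shrink.{0} X ≃* X := Shrink.mulEquiv
  have hb' : tabU.Holds (tabU.lev allG 0) (fun i => e.symm (b i)) fun t => (e.symm.toMonoidHom.comp j) (dv t) := by
    refine ⟨fun t g => ?_, fun x hx hn => ?_, fun i x hx hi hlt hn => ?_⟩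
    · apply e.injective
      simpa [map_mul] using hb.central t (e g)
    · show e.symm (b x) * e.symm (b x) = _
      rw [← map_mul, hb.sq x hx hn]; rfl
    · show e.symm (b i) * e.symm (b x) = _
      rw [← map_mul, hb.comm i x hx hi hlt hn, map_mul, map_mul, map_list_prod, List.map_map]; rfl
  obtain ⟨f, hf, hf'⟩ := ut_lvl.univ (Shrink.{0} X) _ (e.symm.toMonoidHom.comp j) (fun z g => by
    apply e.injective; simpa [map_mul] using hj z (e g)) hb'
  exact ⟨e.toMonoidHom.comp f, fun i hi => by simp [hf i (lev_all hi)], fun z => by simp [hf']⟩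

variable {K : Type u} [Field K] [Fintype K] (hq : IsPrimePow 2) (hK : Fintype.card K = 2 ^ 2)

include hK in
theorem two_eq : (2 : K) = 0 := by
  have h := Nat.cast_card_eq_zero K
  rw [hK] at h
  have h2 : (2 : K) * 2 = 0 := by norm_num at h ⊢; exact h
  exact mul_self_eq_zero.1 h2

include hK in
theorem exists_w : ∃ w : K, w * w = w + 1 := by
  classical
  have hc : (Finset.univ : Finset K).card = 4 := by rw [Finset.card_univ, hK]; rfl
  obtain ⟨w, -, hw⟩ := Finset.exists_mem_notMem_of_card_lt_card (s := ({0, 1} : Finset K)) (t := Finset.univ)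
    (lt_of_le_of_lt Finset.card_le_two (by omega))
  simp only [Finset.mem_insert, Finset.mem_singleton, not_or] at hw
  have h3 := FiniteField.pow_card_sub_one_eq_one w hw.1
  rw [hK] at h3
  have h4 : (w - 1) * (w * w + w + 1) = 0 := by
    norm_num at h3
    linear_combination h3
  refine ⟨w, ?_⟩
  linear_combination (mul_eq_zero.1 h4).resolve_left (sub_ne_zero.2 hw.2) - (w + 1) * two_eq hK

/-- A cube root of unity. -/
noncomputable def om : K := (exists_w hK).choose

include hK in
theorem om_sq : om hK * om hK = om hK + 1 := (exists_w hK).choose_spec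

include hK in
theorem neg_eq (t : K) : -t = t := by linear_combination (-t) * two_eq hK

/-- The value of a code. -/
noncomputable def val4 : ℕ → K
  | 1 => 1
  | 2 => om hK
  | 3 => om hK + 1
  | _ => 0

include hK in
theorem val4_mul {a b : ℕ} (ha : a < 4) (hb : b < 4) : val4 hK (mulC a b) = val4 hK a * val4 hK b := by
  have h2 := two_eq hK
  have h3 := om_sq hK
  interval_cases a <;> interval_cases b <;> simp [mulC, val4] <;>
    first
      | (linear_combination h3)
      | (linear_combination -h3)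
      | (linear_combination h3 + om hK * h2)
      | (linear_combination -h3 - om hK * h2)
      | (linear_combination h3 + h2)
      | (linear_combination -h3 - h2)
      | (linear_combination h3 + (1 + om hK) * h2)
      | (linear_combination -h3 - (1 + om hK) * h2)

/-- An untwisted generator. -/
noncomputable def xa (g : ℕ) : ↥(chevE6.group K) := xG certE6 K (groot g) (val4 hK (gcode g))

theorem xa_code {r c : ℕ} (hr : 36 ≤ r) :
    ((codes r c).map (xa hK)).prod = xG certE6 K r (val4 hK c) := by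
  have e1 : xa hK (2 * (r - 36)) = xG certE6 K r 1 := by
    rw [xa, show groot (2 * (r - 36)) = r by simp [groot]; omega, show gcode (2 * (r - 36)) = 1 by simp [gcode]]
    rfl
  have e2 : xa hK (2 * (r - 36) + 1) = xG certE6 K r (om hK) := by
    rw [xa, show groot (2 * (r - 36) + 1) = r by simp [groot]; omega,
      show gcode (2 * (r - 36) + 1) = 2 by unfold gcode; omega]
    rfl
  match c with
  | 0 => simp [codes, val4, xG_zero]
  | 1 => simp [codes, e1, val4]
  | 2 => simp [codes, e2, val4]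
  | 3 =>
    simp only [codes, List.map_cons, List.map_nil, List.prod_cons, List.prod_nil, mul_one, e1, e2, val4, ← xG_add]
    rw [add_comm (om hK)]
  | _ + 4 => simp [codes, val4, xG_zero]

theorem groot_lt {g : ℕ} (hg : g < 72) : groot g < chevE6.nroots := by
  have : chevE6.nroots = 72 := rfl
  rw [this, groot]; omega

theorem gcode_lt (g : ℕ) : gcode g < 4 := by rw [gcode]; omega

include hK in
theorem int_odd {c : ℤ} (h : c % 2 = 1) : (c : K) = 1 := by
  rw [show c = 2 * (c / 2) + 1 by omega, Int.cast_add, Int.cast_mul, Int.cast_ofNat, two_eq hK, zero_mul, zero_add,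
    Int.cast_one]

theorem holdsA : tabA.Holds (tabA.lev allG 0) (xa hK) fun _ => 1 := by
  have hn : tabA.n = 72 := rfl
  refine ⟨fun k g => by simp, fun x _ hx => ?_, fun i x _ _ hlt hi => ?_⟩
  · rw [xa, ← xG_add, show val4 hK (gcode x) + val4 hK (gcode x) = 0 by
      linear_combination (val4 hK (gcode x)) * two_eq hK, xG_zero]
  · rw [hn] at hi
    have hc := List.all_eq_true.1 (List.all_eq_true.1 comm_all i (List.mem_range.2 hi)) x (List.mem_range.2 hlt)
    rw [commChk] at hc
    cases he : Nat.beq (groot i) (groot x)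
    · rw [he] at hc
      simp only [cond_false, Bool.and_eq_true, Bool.not_eq_true'] at hc
      have hne : groot i ≠ groot x := fun e => by rw [e, Nat.beq_refl] at he; exact Bool.noConfusion he
      have hneg : groot i ≠ chevE6.neg (groot x) := fun e => by
        rw [e, Nat.beq_refl] at hc; exact Bool.noConfusion hc.1
      have h := (chevRel certE6 K).xe_comm (groot x) (groot i) (val4 hK (gcode x)) (val4 hK (gcode i))
        (groot_lt (by omega)) (groot_lt hi) hne hneg
      rw [mul_one]
      show xG certE6 K (groot i) _ * xG certE6 K (groot x) _ = _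
      refine Eq.trans h ?_
      have hc2 := hc.2
      rw [Cfsg.Lie.ChevalleyDatum.commWord]
      split at hc2
      · next e =>
        rw [beq_iff_eq] at hc2
        rw [e, hc2]
        simp [xa]
        rfl
      · next k c e =>
        simp only [Bool.and_eq_true, decide_eq_true_eq, beq_iff_eq] at hc2
        obtain ⟨⟨⟨hodd, hk⟩, -⟩, hr⟩ := hc2
        rw [e, hr]
        simp only [List.map_cons, List.map_nil, List.prod_cons, List.prod_nil, mul_one]
        rw [xa_code hK (Nat.le_of_ble_eq_true hk), val4_mul hK (gcode_lt _) (gcode_lt _), int_odd hK hodd,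
          neg_eq hK, pow_one, pow_one, one_mul, mul_assoc]
        rfl
      · exact absurd hc2 Bool.false_ne_true
    · rw [he, cond_true, beq_iff_eq] at hc
      rw [mul_one, hc]
      simp only [List.map_cons, List.map_nil, List.prod_cons, List.prod_nil, mul_one]
      rw [xa, xa, Nat.eq_of_beq_eq_true he, ← xG_add, ← xG_add, add_comm]

theorem prod_eq_of_collect {u v : List ℕ}
    (h : (tabA.collect (tabA.lev allG 0) fuel u).1 = (tabA.collect (tabA.lev allG 0) fuel v).1) :
    (u.map (xa hK)).prod = (v.map (xa hK)).prod := by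
  have e := (holdsA hK).eq_of_collect fuel h
  simpa using e

/-- A twisted generator in the Chevalley group. -/
noncomputable def x0 (g : ℕ) : ↥(chevE6.group K) := ((twW.getD g []).map (xa hK)).prod

theorem unT_prod (w : List ℕ) : ((unT w).map (xa hK)).prod = (w.map (x0 hK)).prod := by
  induction w with
  | nil => rfl
  | cons g w ih =>
    rw [unT, List.flatMap_cons, List.map_append, List.prod_append, List.map_cons, List.prod_cons]
    exact congrArg₂ _ rfl ih

include hq in
theorem fam_spec {g : ℕ} (hg : g < 36) : ∃ (r : Rt) (t : ↥(RadTw.P hq hK r)), (r : ℕ) = tRoot g ∧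
    36 ≤ (r : ℕ) ∧ (t : K) = val4 hK (tCode g) ∧ x0 hK g = zval hq hK r t := by
  have hc := List.all_eq_true.1 fam_all g (List.mem_range.2 hg)
  simp only [Bool.and_eq_true, Bool.or_eq_true, Nat.blt_eq] at hc
  obtain ⟨⟨⟨h36, h72⟩, hcode⟩, hrest⟩ := hc
  have hn : chevE6.nroots = 72 := rfl
  obtain ⟨r, hr⟩ : ∃ r : Rt, (r : ℕ) = tRoot g := ⟨⟨tRoot g, hn ▸ h72⟩, rfl⟩
  have h36' : 36 ≤ tRoot g := Nat.le_of_ble_eq_true h36
  rw [← hr] at h36' hrest
  cases hb : Nat.beq (bar (r : ℕ)) (r : ℕ)
  · rw [hb] at hrest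
    simp only [cond_false, Bool.and_eq_true, beq_iff_eq] at hrest
    obtain ⟨⟨hb36, -⟩, hw⟩ := hrest
    have hne : bar (r : ℕ) ≠ (r : ℕ) := fun e => by
      rw [e, Nat.beq_refl] at hb; exact Bool.noConfusion hb
    refine ⟨r, ⟨val4 hK (tCode g), fun e => absurd e hne⟩, hr, h36', rfl, ?_⟩
    have hlt : tCode g < 4 := by rcases hcode with e | e <;> rw [Nat.eq_of_beq_eq_true e] <;> norm_num
    rw [x0, hw, List.map_append, List.prod_append, xa_code hK h36', xa_code hK (Nat.le_of_ble_eq_true hb36),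
      zval, if_neg hne, val4_mul hK hlt hlt, fr]
    show _ = xG certE6 K (r : ℕ) (val4 hK (tCode g)) *
      xG certE6 K (barF r : ℕ) (((sgn (r : ℕ) : ℤ) : K) * frE6 hq hK (val4 hK (tCode g)))
    rw [frE6_apply]
    congr 2
    rw [show ((sgn (r : ℕ) : ℤ) : K) = 1 from ?_, one_mul, sq]
    · refine int_odd hK ?_
      have h1 := sgn_mul r
      rcases Int.eq_one_or_neg_one_of_mul_eq_one h1 with e | e <;> rw [e] <;> decide
  · rw [hb] at hrest
    simp only [cond_true, Bool.and_eq_true, beq_iff_eq] at hrest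
    obtain ⟨h1, hw⟩ := hrest
    have he : bar (r : ℕ) = r := Nat.eq_of_beq_eq_true hb
    refine ⟨r, ⟨1, fun _ => map_one _⟩, hr, h36', by rw [Nat.eq_of_beq_eq_true h1]; rfl, ?_⟩
    rw [x0, hw, xa_code hK h36', zval, if_pos he, mul_one]
    rfl

include hq in
theorem x0_mem {g : ℕ} (hg : g < 36) : x0 hK g ∈ Tg hq hK := by
  obtain ⟨r, t, -, -, -, e⟩ := fam_spec hq hK hg
  rw [e]
  exact (Z hq hK r t).2

/-- A twisted generator. -/
noncomputable def xt (g : ℕ) : ↥(Tg hq hK) := if h : g < 36 then ⟨x0 hK g, x0_mem hq hK h⟩ else 1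

theorem xt_val {g : ℕ} (hg : g < 36) : (xt hq hK g : ↥(chevE6.group K)) = x0 hK g := by rw [xt, dif_pos hg]

theorem xt_prod (w : List ℕ) (hw : ∀ g ∈ w, g < 36) :
    (((w.map (xt hq hK)).prod : ↥(Tg hq hK)) : ↥(chevE6.group K)) = (w.map (x0 hK)).prod := by
  induction w with
  | nil => rfl
  | cons g w ih =>
    rw [List.map_cons, List.prod_cons, List.map_cons, List.prod_cons, Subgroup.coe_mul,
      xt_val hq hK (hw g List.mem_cons_self), ih fun y hy => hw y (List.mem_cons_of_mem _ hy)]

theorem rst_lt : ((List.range 36).all fun i => (List.range i).all fun x =>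
    (tabU.rst i x).all (Nat.blt · 36)) = true := by decide +kernel

theorem holdsU : tabU.Holds (tabU.lev allG 0) (xt hq hK) fun e => (1 : V4 →* ↥(Tg hq hK)) (dv e) := by
  have hn : tabU.n = 36 := rfl
  have h := rel_all
  simp only [relChk, List.all_eq_true, List.mem_range, Bool.and_eq_true, beq_iff_eq, List.isEmpty_iff] at h
  refine ⟨fun k g => by simp, fun x _ hx => Subtype.ext ?_, fun i x _ _ hlt hi => Subtype.ext ?_⟩
  · rw [hn] at hx
    have e := prod_eq_of_collect hK (u := unT [x, x]) (v := []) (by rw [(h x hx).1]; rfl)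
    rw [unT_prod] at e
    simpa [xt_val hq hK hx] using e
  · rw [hn] at hi
    have e := prod_eq_of_collect hK ((h i hi).2 x hlt)
    rw [unT_prod, unT_prod] at e
    have hw : ∀ g ∈ tabU.rst i x, g < 36 := fun g hg => Nat.blt_eq.mp
      (List.all_eq_true.1 (List.all_eq_true.1 (List.all_eq_true.1 rst_lt i (List.mem_range.2 hi)) x
        (List.mem_range.2 hlt)) g hg)
    simp only [MonoidHom.one_apply, mul_one, Subgroup.coe_mul, xt_prod hq hK _ hw, xt_val hq hK hi,
      xt_val hq hK (lt_trans hlt hi)]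
    simpa using e

theorem finite_Tg : Finite ↥(Tg hq hK) := by
  haveI : Finite ↥(chevE6.group K) := (chevRel certE6 K).Finite_of_field
  infer_instance

theorem exists_pi : ∃ f : UT →* ↥(Tg hq hK), (∀ i, i < 36 → f (aU i) = xt hq hK i) ∧ ∀ z, f (ιU z) = 1 := by
  haveI := finite_Tg hq hK
  obtain ⟨f, h1, h2⟩ := univ_finite (xt hq hK) 1 (fun z g => by simp) (holdsU hq hK)
  exact ⟨f, h1, fun z => by rw [h2]; rfl⟩

/-- The projection on the unipotent group. -/
noncomputable def piU : UT →* ↥(Tg hq hK) := (exists_pi hq hK).choose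

theorem piU_a {i : ℕ} (hi : i < 36) : piU hq hK (aU i) = xt hq hK i := (exists_pi hq hK).choose_spec.1 i hi

theorem piU_ι (z : V4) : piU hq hK (ιU z) = 1 := (exists_pi hq hK).choose_spec.2 z

/-- The unipotent subgroup of the twisted group. -/
noncomputable def U1 : Subgroup ↥(Tg hq hK) := (chevRel certE6 K).UP.subgroupOf (Tg hq hK)

theorem mem_U1 {g : ↥(Tg hq hK)} : g ∈ U1 hq hK ↔ (g : ↥(chevE6.group K)) ∈ (chevRel certE6 K).UP := Iff.rfl

theorem xt_mem {g : ℕ} (hg : g < 36) : xt hq hK g ∈ U1 hq hK := by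
  obtain ⟨r, t, -, h36, -, e⟩ := fam_spec hq hK hg
  rw [mem_U1, xt_val hq hK hg, e]
  have hh : half chevE6 = 36 := by decide +kernel
  refine (chevRel certE6 K).US_mono ?_ (zval_mem_US hq hK r t)
  rintro s (e | e) <;> subst e
  · show half chevE6 ≤ _
    omega
  · exact (basicOK _ (Fin.isLt _)).2.2.2.2.2.1.2 (by omega)

theorem elts {x : K} : x = 0 ∨ x = 1 ∨ x = om hK ∨ x = om hK + 1 := by
  classical
  by_contra h
  simp only [not_or] at h
  obtain ⟨h0, h1, h2, h3⟩ := h
  have hw := om_sq hK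
  have n0 : om hK ≠ 0 := fun e => by simp [e] at hw
  have n1 : om hK ≠ 1 := fun e => by
    rw [e, one_mul] at hw; exact one_ne_zero (add_eq_left.1 hw.symm)
  have m0 : om hK + 1 ≠ 0 := fun e => n0 (mul_self_eq_zero.1 (hw.trans e))
  have m1 : om hK + 1 ≠ 1 := fun e => n0 (add_eq_right.1 e)
  have hc : ({0, 1, om hK, om hK + 1, x} : Finset K).card = 5 := by
    simp [Finset.card_insert_of_notMem, Ne.symm n0, Ne.symm n1, Ne.symm h0, Ne.symm h1, Ne.symm h2, Ne.symm h3,
      Ne.symm m0, Ne.symm m1]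
  have := Finset.card_le_univ ({0, 1, om hK, om hK + 1, x} : Finset K)
  rw [hc, hK] at this
  norm_num at this

theorem frE6_om : frE6 hq hK (om hK) = om hK + 1 := by rw [frE6_apply, sq, om_sq hK]

/-- The families inside the image of a subgroup with their generators. -/
theorem orb_mem {H : Subgroup UT} {r : Rt} (hrpos : 36 ≤ (r : ℕ))
    (hH : ∀ g, g < 36 → (tRoot g = r ∨ tRoot g = bar r) → aU g ∈ H) {x : ↥(Tg hq hK)}
    (hx : x ∈ SG hq hK (orb r)) : x ∈ H.map (piU hq hK) := by
  have hr72 : (r : ℕ) < 72 := r.2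
  have hc := List.all_eq_true.1 cover_all r (List.mem_range'_1.2 ⟨hrpos, by omega⟩)
  simp only [Bool.and_eq_true, Bool.or_eq_true, List.any_eq_true, List.mem_range] at hc
  obtain ⟨r0, hr0, horb⟩ : ∃ r0 : Rt,
      (r0 : ℕ) = (bif Nat.ble (r : ℕ) (bar r) then (r : ℕ) else bar r) ∧ orb r0 = orb r := by
    cases Nat.ble (r : ℕ) (bar r)
    · exact ⟨barF r, rfl, orb_barF r⟩
    · exact ⟨r, rfl, rfl⟩
  rw [← horb] at hx
  obtain ⟨t, rfl⟩ := exists_Z hq hK hx
  obtain ⟨⟨g1, hg1, ⟨e1, e1'⟩⟩, h2⟩ := hc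
  have hgen : ∀ (g : ℕ) (c : ℕ) (hv : val4 hK c ∈ RadTw.P hq hK r0), g < 36 → tRoot g = (r0 : ℕ) → tCode g = c →
      Z hq hK r0 ⟨val4 hK c, hv⟩ ∈ H.map (piU hq hK) := by
    intro g c hv hg hroot hc
    obtain ⟨r', t', hr', -, ht', e⟩ := fam_spec hq hK hg
    obtain rfl : r' = r0 := Fin.ext (hr'.trans hroot)
    refine ⟨aU g, hH g hg ?_, ?_⟩
    · rw [hroot, hr0]
      cases Nat.ble (r : ℕ) (bar r)
      · exact Or.inr rfl
      · exact Or.inl rfl
    rw [piU_a hq hK hg]
    refine Subtype.ext ?_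
    rw [xt_val hq hK hg, e, Z_val, ht', hc]
  have h1 : Z hq hK r0 ⟨1, fun _ => map_one _⟩ ∈ H.map (piU hq hK) :=
    hgen g1 1 (fun _ => map_one _) hg1 ((Nat.eq_of_beq_eq_true e1).trans hr0.symm) (Nat.eq_of_beq_eq_true e1')
  by_cases hfix : bar (r0 : ℕ) = r0
  · rcases elts hK (x := (t : K)) with e | e | e | e
    · rw [show t = 0 from Subtype.ext e, AddChar.map_zero_eq_one]; exact one_mem _
    · rw [show t = ⟨1, fun _ => map_one _⟩ from Subtype.ext e]; exact h1
    all_goals exfalso; have hf := t.2 hfix; rw [e] at hf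
    · rw [frE6_om, add_eq_left] at hf; exact one_ne_zero hf
    · rw [map_add, map_one, frE6_om, add_eq_left] at hf; exact one_ne_zero hf
  · have hne : bar (r : ℕ) ≠ r := fun e => hfix (by
      have : (r0 : ℕ) = r := by rw [hr0, e, show Nat.ble (r : ℕ) r = true from Nat.ble_eq.mpr le_rfl, cond_true]
      rw [this, e])
    rcases h2 with h2 | ⟨g2, hg2, e2, e2'⟩
    · exact absurd (Nat.eq_of_beq_eq_true h2) hne
    have hw : Z hq hK r0 ⟨om hK, fun e => absurd e hfix⟩ ∈ H.map (piU hq hK) :=
      hgen g2 2 (fun e => absurd e hfix) hg2 ((Nat.eq_of_beq_eq_true e2).trans hr0.symm) (Nat.eq_of_beq_eq_true e2')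
    rcases elts hK (x := (t : K)) with e | e | e | e
    · rw [show t = 0 from Subtype.ext e, AddChar.map_zero_eq_one]; exact one_mem _
    · rw [show t = ⟨1, fun _ => map_one _⟩ from Subtype.ext e]; exact h1
    · rw [show t = ⟨om hK, fun e => absurd e hfix⟩ from Subtype.ext e]; exact hw
    · rw [show t = ⟨om hK, fun e => absurd e hfix⟩ + ⟨1, fun _ => map_one _⟩ from Subtype.ext e,
        AddChar.map_add_eq_mul]
      exact mul_mem hw h1

theorem range_piU : (piU hq hK).range = U1 hq hK := by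
  refine le_antisymm ?_ fun g hg => ?_
  · rintro _ ⟨y, rfl⟩
    obtain ⟨z, l, hl, rfl⟩ := ut_lvl.nf y
    rw [map_mul, piU_ι, one_mul, map_list_prod]
    refine list_prod_mem fun x hx => ?_
    obtain ⟨_, h1, rfl⟩ := List.mem_map.1 hx
    obtain ⟨i, hi, rfl⟩ := List.mem_map.1 h1
    have := List.mem_range'_1.1 (levL_all ▸ hl.subset hi : i ∈ List.range' 0 36)
    rw [piU_a hq hK (by omega)]
    exact xt_mem hq hK (by omega)
  · obtain ⟨n, hn, hn0⟩ := (twE6 hq hK).exists_n0
    obtain ⟨a, ha⟩ := (chevRel certE6 K).isMon_nsPerm n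
    have hcg := inv_mem_CG hq hK n hn g hg
      (Rel.IsMon.conj_mem_US (chevRel certE6 K) ha (T := negSet chevE6) (fun r hr => hn0 r hr) hg)
    refine CG_le hq hK (fun r hr x hx => ?_) hcg
    have hh : half chevE6 = 36 := by decide +kernel
    rw [MonoidHom.range_eq_map]
    exact orb_mem hq hK (hh ▸ (hr (Or.inl rfl)).1) (fun g _ _ => Subgroup.mem_top _) hx

theorem card_U1_eq : Nat.card ↥(U1 hq hK) = 2 ^ 36 := by
  obtain ⟨e, he, hU⟩ := (twE6 hq hK).card_U1 one_pos (classCardE6 hq hK)
  have h36 : half chevE6 = 36 := by decide +kernel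
  obtain rfl : e = 36 := by omega
  rw [← hU]
  exact Nat.card_congr
    { toFun := fun g => ⟨g.1.1, Subgroup.mem_inf.2 ⟨g.1.2, g.2⟩⟩
      invFun := fun g => ⟨⟨g.1, (Subgroup.mem_inf.1 g.2).1⟩, (Subgroup.mem_inf.1 g.2).2⟩
      left_inv := fun _ => rfl
      right_inv := fun _ => rfl }

theorem ker_piU : (piU hq hK).ker = ιU.range := by
  haveI : Finite ↥(piU hq hK).ker := inferInstance
  refine (Subgroup.eq_of_le_of_card_ge ?_ ?_).symm
  · rintro _ ⟨z, rfl⟩
    exact piU_ι hq hK z
  · have h := (piU hq hK).ker.card_mul_index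
    rw [Subgroup.index_ker, range_piU, card_U1_eq, card_UT] at h
    have h2 : Nat.card ↥ιU.range = 4 := by
      rw [← Nat.card_congr (MonoidHom.ofInjective ιU_injective).toEquiv, Nat.card_congr Multiplicative.toAdd,
        Nat.card_prod, Nat.card_zmod]
    rw [h2]
    exact le_of_eq (Nat.eq_of_mul_eq_mul_right (pow_pos two_pos 36) h)

end CfsgLib.Known.E6TwoMult
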