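import Cfsg.Agent.Lib.Known.E6TwoMult.Engine

/-!
# Central extensions from a table, built by repeated semidirect products (owner: helper6)
-/

set_option autoImplicit false

namespace CfsgLib.Known.E6TwoMult.Tab

variable (T : Tab)

/-- The predicate of a level. -/
def lev (keep : ℕ → Bool) (k : ℕ) (j : ℕ) : Bool := Nat.ble k j && keep j && Nat.blt j T.n

/-- The generators of a level. -/
def levL (keep : ℕ → Bool) (k : ℕ) : List ℕ := (List.range' k (T.n - k)).filter keep

/-- The word of the image of a word under the action of `k`. -/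
def actW (k : ℕ) (w : List ℕ) : List ℕ := w.flatMap fun e => T.rst e k

/-- The tails of the image of a word under the action of `k`. -/
def actT (k : ℕ) (w : List ℕ) : List ℕ := w.map fun e => T.pid e k

/-- The checks making the step at `k` possible. -/
def stepChk (keep : ℕ → Bool) (tz : List ℕ → Bool) (f k : ℕ) : Bool :=
  (List.range T.n).all fun i => !T.lev keep (k + 1) i ||
    ((T.rst i k).all (fun e => T.lev keep (k + 1) e) &&
      (let u := T.collect (T.lev keep (k + 1)) f (T.rst i k ++ T.rst i k)
       u.1.isEmpty && tz (u.2 ++ [T.pid i k, T.pid i k, i])) &&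
      (let v := T.collect (T.lev keep (k + 1)) f (T.actW k (T.rst i k))
       v.1 == [i] && tz (v.2 ++ T.pid i k :: T.actT k (T.rst i k))) &&
      (List.range i).all fun x => !T.lev keep (k + 1) x ||
        ((T.rst i x).all (fun e => T.lev keep (k + 1) e) &&
          let u := T.collect (T.lev keep (k + 1)) f (T.rst i k ++ T.rst x k)
          let v := T.collect (T.lev keep (k + 1)) f (T.rst x k ++ T.actW k (T.rst i x))
          u.1 == v.1 &&
            tz (u.2 ++ [T.pid i k, T.pid x k] ++ (v.2 ++ T.pid x k :: T.pid i x :: T.actT k (T.rst i x)))))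

variable {T}

theorem lev_iff {keep : ℕ → Bool} {k j : ℕ} :
    T.lev keep k j = true ↔ k ≤ j ∧ keep j = true ∧ j < T.n := by
  simp [lev, Bool.and_eq_true, and_assoc]

theorem levL_top {keep : ℕ → Bool} : T.levL keep T.n = [] := by simp [levL]

theorem levL_step {keep : ℕ → Bool} {k : ℕ} (hk : k < T.n) :
    T.levL keep k = bif keep k then k :: T.levL keep (k + 1) else T.levL keep (k + 1) := by
  rw [levL, levL, show T.n - k = T.n - (k + 1) + 1 by omega, List.range'_succ, List.filter_cons]
  cases keep k <;> rfl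

variable {A : Type} [CommGroup A] (dv : ℕ → A)

/-- A group realising a level. -/
structure IsLvl (keep : ℕ → Bool) (k : ℕ) (M : Type) [Group M] (a : ℕ → M) (ι : A →* M) : Prop where
  holds : T.Holds (T.lev keep k) a fun e => ι (dv e)
  cen : ∀ z g, ι z * g = g * ι z
  univ : ∀ (X : Type) [Group X] (b : ℕ → X) (j : A →* X), (∀ z g, j z * g = g * j z) →
    T.Holds (T.lev keep k) b (fun e => j (dv e)) →
      ∃ f : M →* X, (∀ i, T.lev keep k i = true → f (a i) = b i) ∧ ∀ z, f (ι z) = j z
  nf : ∀ y : M, ∃ (z : A) (l : List ℕ), l.Sublist (T.levL keep k) ∧ y = ι z * (l.map a).prod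
  card : Nat.card M = Nat.card A * 2 ^ (T.levL keep k).length

theorem isLvl_top (keep : ℕ → Bool) : IsLvl (T := T) dv keep T.n A (fun _ => 1) (MonoidHom.id A) where
  holds := ⟨fun k g => mul_comm _ _, fun x hx hn => absurd (lev_iff.1 hx).1 (not_le.2 hn),
    fun i x hx _ h hn => absurd (lev_iff.1 hx).1 (by omega)⟩
  cen z g := mul_comm _ _
  univ X _ b j _ _ := ⟨j, fun i hi => absurd (lev_iff.1 hi).1 (not_le.2 (lev_iff.1 hi).2.2), fun z => rfl⟩
  nf y := ⟨y, [], List.nil_sublist _, by simp⟩
  card := by simp [levL_top]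

theorem exists_c2 {N : Type} [Group N] (α : MulAut N) (hα : α * α = 1) :
    ∃ (C : Type) (_ : Group C) (c : C) (φ : C →* MulAut N), Nat.card C = 2 ∧ c * c = 1 ∧ φ c = α ∧
      (∀ x : C, x = 1 ∨ x = c) ∧
      ∀ (X : Type) [Group X] (y : X), y * y = 1 → ∃ g : C →* X, g c = y := by
  let e : MulAut N × Multiplicative (ZMod 2) := (α, Multiplicative.ofAdd 1)
  have he : e ^ 2 = 1 := by rw [pow_two]; exact Prod.ext hα (show Multiplicative.ofAdd (1 : ZMod 2) * Multiplicative.ofAdd 1 = 1 by decide)
  have hne : e ≠ 1 := fun h => absurd (congrArg Prod.snd h) (show Multiplicative.ofAdd (1 : ZMod 2) ≠ 1 by decide)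
  haveI := Fact.mk Nat.prime_two
  have ho : orderOf e = 2 := orderOf_eq_prime he hne
  let c : Subgroup.zpowers e := ⟨e, Subgroup.mem_zpowers e⟩
  have hcases : ∀ x : Subgroup.zpowers e, x = 1 ∨ x = c := by
    rintro ⟨x, n, rfl⟩
    rcases Int.even_or_odd' n with ⟨m, rfl | rfl⟩
    · left; refine Subtype.ext ?_
      show e ^ (2 * m) = 1
      rw [zpow_mul, show e ^ (2 : ℤ) = 1 by exact_mod_cast he, one_zpow]
    · right; refine Subtype.ext ?_
      show e ^ (2 * m + 1) = e
      rw [zpow_add, zpow_mul, show e ^ (2 : ℤ) = 1 by exact_mod_cast he, one_zpow, one_mul, zpow_one]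
  refine ⟨Subgroup.zpowers e, inferInstance, c, (MonoidHom.fst _ _).comp (Subgroup.zpowers e).subtype,
    by rw [Nat.card_zpowers, ho], Subtype.ext (by rw [← pow_two] ; exact he), rfl, hcases, fun X _ y hy => ?_⟩
  classical
  have hc1 : c ≠ 1 := fun h => hne (congrArg Subtype.val h)
  have hcc : c * c = 1 := Subtype.ext (by rw [← pow_two]; exact he)
  refine ⟨MonoidHom.mk' (fun x => if x = 1 then 1 else y) fun u v => ?_, if_neg hc1⟩
  rcases hcases u with rfl | rfl <;> rcases hcases v with rfl | rfl <;> simp [hc1, hcc, hy]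

variable {dv} (hA : ∀ z : A, z * z = 1) (tz : List ℕ → Bool)
  (htz : ∀ t, tz t = true → (t.map dv).prod = 1) (hsq : ∀ x < T.n, dv x = 1)

include hA htz in
theorem tz_eq {u v : List ℕ} (h : tz (u ++ v) = true) : (u.map dv).prod = (v.map dv).prod := by
  have e := htz _ h
  rw [List.map_append, List.prod_append] at e
  rw [eq_inv_of_mul_eq_one_left e]
  exact inv_eq_of_mul_eq_one_left (hA _)

theorem isLvl_skip {keep : ℕ → Bool} {k : ℕ} (hk : k < T.n) (hkeep : keep k = false) {M : Type} [Group M]
    {a : ℕ → M} {ι : A →* M} (L : IsLvl (T := T) dv keep (k + 1) M a ι) : IsLvl (T := T) dv keep k M a ι := by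
  have e : T.lev keep k = T.lev keep (k + 1) := funext fun j => by
    rw [Bool.eq_iff_iff, lev_iff, lev_iff]
    refine ⟨fun ⟨h1, h2, h3⟩ => ⟨?_, h2, h3⟩, fun ⟨h1, h2, h3⟩ => ⟨by omega, h2, h3⟩⟩
    rcases Nat.eq_or_lt_of_le h1 with rfl | h
    · rw [hkeep] at h2; exact Bool.noConfusion h2
    · omega
  have e2 : T.levL keep k = T.levL keep (k + 1) := by rw [levL_step hk, hkeep, cond_false]
  exact ⟨e ▸ L.holds, L.cen, fun X _ b j hj hb => by rw [e] at hb ⊢; exact L.univ X b j hj hb,
    e2 ▸ L.nf, e2 ▸ L.card⟩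

include hA htz hsq in
theorem isLvl_step {keep : ℕ → Bool} {f k : ℕ} (hk : k < T.n) (hkeep : keep k = true)
    (hc : T.stepChk keep tz f k = true) {M : Type} [Group M] {a : ℕ → M} {ι : A →* M}
    (L : IsLvl (T := T) dv keep (k + 1) M a ι) :
    ∃ (M' : Type) (_ : Group M') (a' : ℕ → M') (ι' : A →* M'), IsLvl (T := T) dv keep k M' a' ι' := by
  simp only [stepChk, List.all_eq_true, List.mem_range, Bool.or_eq_true, Bool.not_eq_true', Bool.and_eq_true,
    beq_iff_eq, List.isEmpty_iff] at hc
  have HH : ∀ i, T.lev keep (k + 1) i = true → _ := fun i hi =>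
    (hc i (lev_iff.1 hi).2.2).resolve_left (by rw [hi]; exact Bool.noConfusion)
  let b : ℕ → M := fun i => ((T.rst i k).map a).prod * ι (dv (T.pid i k))
  have hι : ∀ t : List ℕ, (t.map fun e => ι (dv e)).prod = ι (t.map dv).prod := fun t => by
    rw [map_list_prod, List.map_map]; rfl
  have hb : ∀ w : List ℕ, (w.map b).prod = ((T.actW k w).map a).prod * ι ((T.actT k w).map dv).prod := by
    intro w
    induction w with
    | nil => simp [actW, actT]
    | cons e w ih =>
      rw [List.map_cons, List.prod_cons, ih]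
      simp only [b, actW, actT, List.flatMap_cons, List.map_append, List.prod_append, List.map_cons, List.prod_cons,
        map_mul]
      rw [mul_assoc, ← mul_assoc (ι (dv (T.pid e k))), L.cen]
      simp only [mul_assoc]
  have hbh : T.Holds (T.lev keep (k + 1)) b fun e => ι (dv e) := by
    refine ⟨fun e g => L.cen _ g, fun x hx hn => ?_, fun i x hx hi hlt hn => ?_⟩
    · obtain ⟨⟨⟨-, h1, h1'⟩, -⟩, -⟩ := HH x hx
      have e := L.holds.collect_spec f (T.rst x k ++ T.rst x k)
      rw [h1, List.map_nil, List.prod_nil, one_mul, hι, List.map_append, List.prod_append] at e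
      have e2 := tz_eq hA tz htz h1'
      show b x * b x = ι (dv x)
      simp only [b]
      rw [mul_assoc, ← mul_assoc (ι _), L.cen, mul_assoc, ← mul_assoc, e, e2, hsq x hn, map_one]
      simp only [List.map_cons, List.map_nil, List.prod_cons, List.prod_nil, mul_one, hsq x hn, ← map_mul, hA,
        map_one]
    · obtain ⟨-, h⟩ := HH i hi
      obtain ⟨-, h1, h1'⟩ := (h x hlt).resolve_left (by rw [hx]; exact Bool.noConfusion)
      have e := L.holds.eq_of_collect f h1
      rw [hι, hι, List.map_append, List.prod_append, List.map_append, List.prod_append] at e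
      have e2 := tz_eq hA tz htz h1'
      simp only [List.map_append, List.prod_append, List.map_cons, List.map_nil, List.prod_cons, List.prod_nil,
        mul_one] at e2
      show b i * b x = b x * ((T.rst i x).map b).prod * ι (dv (T.pid i x))
      rw [hb]
      simp only [b]
      set P := ((T.rst i k).map a).prod
      set Q := ((T.rst x k).map a).prod
      set W := ((T.actW k (T.rst i x)).map a).prod
      set U := ((T.collect (T.lev keep (k + 1)) f (T.rst i k ++ T.rst x k)).2.map dv).prod
      set V := ((T.collect (T.lev keep (k + 1)) f (T.rst x k ++ T.actW k (T.rst i x))).2.map dv).prod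
      set S := ((T.actT k (T.rst i x)).map dv).prod
      have eP : P * ι (dv (T.pid i k)) * (Q * ι (dv (T.pid x k))) = P * Q * ι (dv (T.pid i k) * dv (T.pid x k)) := by
        rw [map_mul, mul_assoc, ← mul_assoc (ι _), L.cen]; simp only [mul_assoc]
      have eQ : Q * ι (dv (T.pid x k)) * (W * ι S) * ι (dv (T.pid i x)) =
          Q * W * ι (dv (T.pid x k) * (dv (T.pid i x) * S)) := by
        rw [map_mul, map_mul, mul_assoc Q, ← mul_assoc (ι _) W, L.cen, mul_assoc Q W, mul_assoc Q,
          L.cen (dv (T.pid i x))]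
        simp only [mul_assoc]
      rw [eP, eQ]
      have e3 : P * Q = Q * W * ι (U * V) := by
        calc P * Q = P * Q * ι (V * V) := by rw [hA, map_one, mul_one]
          _ = P * Q * ι V * ι V := by rw [map_mul]; simp only [mul_assoc]
          _ = _ := by rw [e, map_mul]; simp only [mul_assoc]
      rw [e3, mul_assoc (Q * W), ← map_mul]
      congr 2
      rw [show U * V * (dv (T.pid i k) * dv (T.pid x k)) = V * (U * (dv (T.pid i k) * dv (T.pid x k))) by ac_rfl,
        e2, ← mul_assoc, hA, one_mul]
  obtain ⟨α0, hα, hαι⟩ := L.univ M b ι L.cen hbh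
  have hαα : ∀ y, α0 (α0 y) = y := by
    have hgen : ∀ i, T.lev keep (k + 1) i = true → α0 (α0 (a i)) = a i := fun i hi => by
      obtain ⟨⟨⟨h0, -⟩, h2, h2'⟩, -⟩ := HH i hi
      rw [hα i hi]
      simp only [b, map_mul, map_list_prod, List.map_map, hαι]
      rw [show (T.rst i k).map (⇑α0 ∘ a) = (T.rst i k).map b from List.map_congr_left fun e he =>
        hα e (h0 e he), hb, L.holds.collect_spec f, h2, hι]
      have e2 := htz _ h2'
      simp only [List.map_append, List.prod_append, List.map_cons, List.prod_cons] at e2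
      simp only [List.map_cons, List.map_nil, List.prod_cons, List.prod_nil, mul_one, mul_assoc, ← map_mul]
      rw [show ((T.collect (T.lev keep (k + 1)) f (T.actW k (T.rst i k))).2.map dv).prod *
          (((T.actT k (T.rst i k)).map dv).prod * dv (T.pid i k)) = 1 by rw [← e2]; ac_rfl, map_one, mul_one]
    intro y
    obtain ⟨z, l, hl, rfl⟩ := L.nf y
    rw [map_mul, map_mul, hαι, hαι, map_list_prod, map_list_prod, List.map_map, List.map_map]
    refine congrArg _ (congrArg List.prod (List.map_congr_left fun i hi => ?_))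
    have := List.mem_filter.1 (hl.subset hi)
    exact hgen i (lev_iff.2 ⟨(List.mem_range'_1.1 this.1).1, this.2,
      by have := (List.mem_range'_1.1 this.1).2; omega⟩)
  let α : MulAut M := { α0 with invFun := α0, left_inv := hαα, right_inv := hαα }
  obtain ⟨C, iC, c, φ, hC2, hcc, hφ, hcases, hCu⟩ := exists_c2 α (MulEquiv.ext fun y => hαα y)
  let inl : M →* M ⋊[φ] C := SemidirectProduct.inl
  let cc : M ⋊[φ] C := SemidirectProduct.inr c
  let a' : ℕ → M ⋊[φ] C := fun i => if i = k then cc else inl (a i)
  have ha' : ∀ i, T.lev keep (k + 1) i = true → a' i = inl (a i) := fun i hi =>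
    if_neg (by have := (lev_iff.1 hi).1; omega)
  have hak : a' k = cc := if_pos rfl
  have hc2 : cc * cc = 1 := by show SemidirectProduct.inr c * SemidirectProduct.inr c = _; rw [← map_mul, hcc, map_one]
  have hconj : ∀ y, cc * inl y * cc = inl (α0 y) := fun y => by
    have h := SemidirectProduct.inl_aut (φ := φ) c y
    rw [hφ, map_inv, inv_eq_of_mul_eq_one_right hc2] at h
    exact h.symm
  have hcen : ∀ z g, inl (ι z) * g = g * inl (ι z) := by
    intro z g
    have hcz : cc * inl (ι z) = inl (ι z) * cc := by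
      rw [show cc * inl (ι z) = cc * inl (ι z) * (cc * cc) by rw [hc2, mul_one], ← mul_assoc, hconj, hαι]
    rw [← SemidirectProduct.inl_left_mul_inr_right g]
    rcases hcases g.right with e | e <;> rw [e]
    · rw [map_one, mul_one, ← map_mul, ← map_mul, L.cen]
    · show inl (ι z) * (inl g.left * cc) = inl g.left * cc * inl (ι z)
      rw [← mul_assoc, ← map_mul, L.cen, map_mul, mul_assoc, mul_assoc, hcz]
  have hlev : ∀ i, T.lev keep k i = true → i = k ∨ T.lev keep (k + 1) i = true := fun i hi => by
    obtain ⟨h1, h2, h3⟩ := lev_iff.1 hi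
    rcases Nat.eq_or_lt_of_le h1 with h | h
    · exact Or.inl h.symm
    · exact Or.inr (lev_iff.2 ⟨h, h2, h3⟩)
  have hlift : ∀ i, T.lev keep (k + 1) i = true → T.lev keep k i = true := fun i hi =>
    lev_iff.2 ⟨by have := (lev_iff.1 hi).1; omega, (lev_iff.1 hi).2⟩
  have hkk : T.lev keep k k = true := lev_iff.2 ⟨le_rfl, hkeep, hk⟩
  have hmap : ∀ w : List ℕ, (∀ e ∈ w, T.lev keep (k + 1) e = true) →
      (w.map a').prod = inl (w.map a).prod := fun w hw => by
    rw [map_list_prod, List.map_map]
    exact congrArg List.prod (List.map_congr_left fun e he => ha' e (hw e he))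
  refine ⟨M ⋊[φ] C, inferInstance, a', inl.comp ι,
    ⟨⟨fun e g => hcen _ g, fun x hx hn => ?_, fun i x hx hi hlt hn => ?_⟩, hcen, ?_, ?_, ?_⟩⟩
  · rcases hlev x hx with rfl | h
    · rw [hak, hc2, hsq _ hn, map_one]
    · rw [ha' x h, ← map_mul, L.holds.sq x h hn]; rfl
  · have hi' : T.lev keep (k + 1) i = true :=
      (hlev i hi).resolve_left (by have := (lev_iff.1 hx).1; omega)
    rcases hlev x hx with rfl | h
    · obtain ⟨⟨⟨h0, -⟩, -⟩, -⟩ := HH i hi'
      rw [hak, ha' i hi', hmap _ h0, MonoidHom.comp_apply, mul_assoc, ← map_mul]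
      have e := hconj (a i)
      rw [hα i hi'] at e
      show inl (a i) * cc = cc * inl (b i)
      rw [← e, ← mul_assoc, ← mul_assoc, hc2, one_mul]
    · obtain ⟨-, h'⟩ := HH i hi'
      obtain ⟨h0, -⟩ := (h' x hlt).resolve_left (by rw [h]; exact Bool.noConfusion)
      rw [ha' i hi', ha' x h, hmap _ h0, MonoidHom.comp_apply, ← map_mul, ← map_mul, ← map_mul,
        L.holds.comm i x h hi' hlt hn]
  · intro X _ bX j hj hbX
    obtain ⟨g1, hg1, hg1'⟩ := L.univ X bX j hj ⟨hbX.central, fun x hx hn => hbX.sq x (hlift x hx) hn,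
      fun i x hx hi hlt hn => hbX.comm i x (hlift x hx) (hlift i hi) hlt hn⟩
    have hy : bX k * bX k = 1 := by rw [hbX.sq k hkk hk, hsq k hk, map_one]
    obtain ⟨g2, hg2⟩ := hCu X (bX k) hy
    have hkey : ∀ y, g1 (α0 y) = bX k * g1 y * bX k := by
      intro y
      let cj : X →* X := MonoidHom.mk' (fun g => bX k * g * bX k) fun g g' => by
        calc bX k * (g * g') * bX k = bX k * g * (bX k * bX k) * g' * bX k := by rw [hy]; group
          _ = _ := by group
      obtain ⟨z, l, hl, rfl⟩ := L.nf y
      show g1 _ = cj (g1 _)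
      simp only [map_mul, hαι, hg1', map_list_prod, List.map_map]
      have hz : cj (j z) = j z := by
        show bX k * j z * bX k = j z
        rw [← hj, mul_assoc, hy, mul_one]
      rw [hz]
      refine congrArg _ (congrArg List.prod (List.map_congr_left fun i hi => ?_))
      have hm := List.mem_filter.1 (hl.subset hi)
      have hi' : T.lev keep (k + 1) i = true := lev_iff.2
        ⟨(List.mem_range'_1.1 hm.1).1, hm.2, by have := (List.mem_range'_1.1 hm.1).2; omega⟩
      obtain ⟨⟨⟨h0, -⟩, -⟩, -⟩ := HH i hi'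
      simp only [Function.comp_apply]
      rw [hα i hi']
      simp only [b, map_mul, map_list_prod, List.map_map, hg1']
      rw [show (T.rst i k).map (⇑g1 ∘ a) = (T.rst i k).map bX from List.map_congr_left fun e he => hg1 e (h0 e he),
        hg1 i hi']
      show _ = bX k * bX i * bX k
      have hlt : k < i := (lev_iff.1 hi').1
      rw [mul_assoc (bX k), hbX.comm i k hkk (hlift i hi') hlt (lev_iff.1 hi').2.2, ← mul_assoc, ← mul_assoc, hy,
        one_mul]
    refine ⟨SemidirectProduct.lift g1 g2 fun g => MonoidHom.ext fun y => ?_, fun i hi => ?_, fun z => ?_⟩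
    · rcases hcases g with rfl | rfl
      · simp
      · simp only [MonoidHom.comp_apply, MulEquiv.coe_toMonoidHom, MulAut.conj_apply, hφ, hg2]
        rw [inv_eq_of_mul_eq_one_right hy]
        exact hkey y
    · rcases hlev i hi with rfl | h
      · rw [hak, SemidirectProduct.lift_inr, hg2]
      · rw [ha' i h, SemidirectProduct.lift_inl, hg1 i h]
    · rw [MonoidHom.comp_apply, SemidirectProduct.lift_inl, hg1']
  · intro y
    rcases hcases y.right with e | e
    · obtain ⟨z, l, hl, e'⟩ := L.nf y.left
      refine ⟨z, l, hl.trans (by rw [levL_step hk, hkeep, cond_true]; exact List.sublist_cons_self _ _), ?_⟩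
      rw [← SemidirectProduct.inl_left_mul_inr_right y, e, map_one, mul_one, e', hmap]
      · exact map_mul inl _ _
      · intro i hi
        have hm := List.mem_filter.1 (hl.subset hi)
        exact lev_iff.2 ⟨(List.mem_range'_1.1 hm.1).1, hm.2, by have := (List.mem_range'_1.1 hm.1).2; omega⟩
    · obtain ⟨z, l, hl, e'⟩ := L.nf (α0 y.left)
      refine ⟨z, k :: l, by rw [levL_step hk, hkeep, cond_true]; exact hl.cons_cons k, ?_⟩
      rw [← SemidirectProduct.inl_left_mul_inr_right y, e, List.map_cons, List.prod_cons, hak, hmap]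
      · rw [MonoidHom.comp_apply, ← mul_assoc, hcen, mul_assoc, ← map_mul, ← e', ← hconj]
        show _ = cc * (cc * inl y.left * cc)
        rw [← mul_assoc, ← mul_assoc, hc2, one_mul]
      · intro i hi
        have hm := List.mem_filter.1 (hl.subset hi)
        exact lev_iff.2 ⟨(List.mem_range'_1.1 hm.1).1, hm.2, by have := (List.mem_range'_1.1 hm.1).2; omega⟩
  · rw [Nat.card_congr SemidirectProduct.equivProd, Nat.card_prod, hC2, L.card, levL_step hk, hkeep, cond_true,
      List.length_cons, pow_succ]
    ring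

include hA htz hsq in
theorem exists_lvl (keep : ℕ → Bool) (f : ℕ)
    (hc : ∀ k < T.n, keep k = false ∨ T.stepChk keep tz f k = true) :
    ∀ j ≤ T.n, ∃ (M : Type) (_ : Group M) (a : ℕ → M) (ι : A →* M), IsLvl (T := T) dv keep (T.n - j) M a ι := by
  intro j
  induction j with
  | zero => exact fun _ => ⟨A, inferInstance, _, _, isLvl_top dv keep⟩
  | succ j ih =>
    intro hj
    obtain ⟨M, i, a, ι, L⟩ := ih (by omega)
    have hk : T.n - (j + 1) < T.n := by omega
    rw [show T.n - j = T.n - (j + 1) + 1 by omega] at L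
    rcases hc _ hk with h | h
    · exact ⟨M, i, a, ι, isLvl_skip hk h L⟩
    · cases hkp : keep (T.n - (j + 1))
      · exact ⟨M, i, a, ι, isLvl_skip hk hkp L⟩
      · exact isLvl_step hA tz htz hsq hk hkp h L

end CfsgLib.Known.E6TwoMult.Tab
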