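import Cfsg.Agent.Lib.Lie.Twisted.E6Mult.Main
import Cfsg.Agent.Lib.Schur.Perfect

/-!
# The odd part of the multiplier of `2E6(q)` is bounded by the centre of the cover (owner: helper6)
-/

set_option autoImplicit false
set_option linter.unusedSectionVars false

namespace CfsgLib.Known.E6TwoMult

open CfsgLib.Lie.Chev CfsgLib.Lie.Chev.TwGroups CfsgLib.PLocal CfsgLib.PLocal.RadTw

universe u

variable {K : Type u} [Field K] [Fintype K] {q : ℕ} (hq : IsPrimePow q) (hK : Fintype.card K = q ^ 2)

include hq hK in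
theorem card_ker_of_coprime (p : ℕ) [hp : Fact p.Prime] [CharP K p] {Γ : Type u} [Group Γ] [Finite Γ]
    (σ : Γ →* ↥(Tg hq hK)) (hσ : Cfsg.IsStemExtension σ) (hcop : p.Coprime (Nat.card σ.ker)) :
    Nat.card σ.ker ≤ Nat.card (E6Mult.covθ hq hK).ker := by
  obtain ⟨hσs, hσc, hσd⟩ := hσ
  haveI := E6Mult.cov_finite hq hK
  set θ := E6Mult.covθ hq hK
  have hperf := E6Mult.cov_perfect hq hK p
  have hθ : Function.Surjective θ := E6Mult.covθ_surjective hq hK
  have hQ : commutator ↥(Tg hq hK) = ⊤ := perfectE6 hq hK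
  have hΓ : commutator Γ = ⊤ := CfsgLib.Schur.commutator_eq_top_of_central hQ σ hσs hσd
  let P : Subgroup (Γ × ↥(E6Mult.cov hq hK)) :=
    (σ.comp (MonoidHom.fst _ _)).eqLocus (θ.comp (MonoidHom.snd _ _))
  let π : P →* ↥(E6Mult.cov hq hK) := (MonoidHom.snd _ _).comp P.subtype
  have hπs : Function.Surjective π := fun x => by
    obtain ⟨g, hg⟩ := hσs (θ x)
    exact ⟨⟨(g, x), hg⟩, rfl⟩
  have hker : ∀ y : P, y ∈ π.ker → σ (y : Γ × ↥(E6Mult.cov hq hK)).1 = 1 := fun y hy => by
    have h1 := y.2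
    change σ (y : Γ × ↥(E6Mult.cov hq hK)).1 = θ (y : Γ × ↥(E6Mult.cov hq hK)).2 at h1
    rw [h1, show (y : Γ × ↥(E6Mult.cov hq hK)).2 = 1 from hy, map_one]
  have hπc : π.ker ≤ Subgroup.center P := fun y hy => by
    rw [Subgroup.mem_center_iff]
    intro z
    refine Subtype.ext (Prod.ext ?_ ?_)
    · exact Subgroup.mem_center_iff.1 (hσc (hker y hy)) _
    · show _ * (y : Γ × ↥(E6Mult.cov hq hK)).2 = (y : Γ × ↥(E6Mult.cov hq hK)).2 * _
      rw [show (y : Γ × ↥(E6Mult.cov hq hK)).2 = 1 from hy, mul_one, one_mul]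
  let fst' : P →* Γ := (MonoidHom.fst _ _).comp P.subtype
  have hfst : Function.Surjective fst' := fun g => by
    obtain ⟨x, hx⟩ := hθ (σ g)
    exact ⟨⟨(g, x), hx.symm⟩, rfl⟩
  have hmapc : ∀ {H : Type u} [Group H] (f : P →* H), Function.Surjective f → commutator H = ⊤ →
      Function.Surjective (f.comp (commutator P).subtype) := by
    intro H _ f hf hH h
    have : h ∈ (commutator P).map f := by
      rw [commutator_def, Subgroup.map_commutator, Subgroup.map_top_of_surjective f hf, ← commutator_def, hH]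
      exact Subgroup.mem_top _
    obtain ⟨x, hx, e⟩ := this
    exact ⟨⟨x, hx⟩, e⟩
  let π' : commutator P →* ↥(E6Mult.cov hq hK) := π.comp (commutator P).subtype
  have hsup : commutator P ⊔ π.ker = ⊤ := eq_top_iff.2 fun g _ => by
    obtain ⟨x, hx⟩ := hmapc π hπs hperf (π g)
    rw [show g = (x : P) * ((x : P)⁻¹ * g) by group]
    exact Subgroup.mul_mem_sup x.2 (by
      rw [MonoidHom.mem_ker, map_mul, map_inv, show π (x : P) = π g from hx, inv_mul_cancel])
  have hperf' : commutator (commutator P) = ⊤ := by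
    have hsup' : (commutator P).subtype.range ⊔ π.ker = ⊤ := by rw [Subgroup.range_subtype]; exact hsup
    have h := CfsgLib.Schur.commutator_eq_map_of_range_sup (commutator P).subtype π.ker hπc hsup'
    refine top_le_iff.1 fun x _ => ?_
    have hx : (x : P) ∈ (commutator (commutator P)).map (commutator P).subtype := h ▸ x.2
    obtain ⟨y, hy, e⟩ := hx
    rwa [← Subtype.ext e]
  have hstem : Cfsg.IsStemExtension π' := ⟨hmapc π hπs hperf, fun y hy => by
      rw [Subgroup.mem_center_iff]
      exact fun z => Subtype.ext (Subgroup.mem_center_iff.1 (hπc hy) _), by rw [hperf']; exact le_top⟩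
  have hcop' : p.Coprime (Nat.card π'.ker) := by
    let j : π'.ker →* σ.ker := ((fst'.comp (commutator P).subtype).comp π'.ker.subtype).codRestrict _ fun y =>
      hker _ y.2
    have hj : Function.Injective j := fun y y' h => by
      refine Subtype.ext (Subtype.ext (Subtype.ext (Prod.ext ?_ ?_)))
      · exact congrArg (fun x : σ.ker => (x : Γ)) h
      · exact (show π' (y : commutator P) = 1 from y.2).trans (show π' (y' : commutator P) = 1 from y'.2).symm
    exact hcop.coprime_dvd_right (Subgroup.card_dvd_of_injective j hj)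
  have hinj : Function.Injective π' := (MonoidHom.ker_eq_bot_iff _).1
    ((E6Mult.covSys hq hK p).ker_eq_bot_of_coprime (E6Mult.cU_isPGroup hq hK) hp.out (E6Mult.covSys_gen hq hK p)
      (E6Mult.covSys_torusFree hq hK p) hstem hcop')
  have hle : Nat.card Γ ≤ Nat.card ↥(E6Mult.cov hq hK) :=
    (Nat.card_le_card_of_surjective _ (hmapc fst' hfst hΓ)).trans (Nat.card_le_card_of_injective π' hinj)
  have h1 : Nat.card σ.ker * Nat.card ↥(Tg hq hK) = Nat.card Γ := by
    rw [show Nat.card ↥(Tg hq hK) = σ.ker.index by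
      rw [Subgroup.index_ker, MonoidHom.range_eq_top.2 hσs, Subgroup.card_top]]
    exact Subgroup.card_mul_index _
  have h2 : Nat.card θ.ker * Nat.card ↥(Tg hq hK) = Nat.card ↥(E6Mult.cov hq hK) := by
    rw [show Nat.card ↥(Tg hq hK) = θ.ker.index by
      rw [Subgroup.index_ker, MonoidHom.range_eq_top.2 hθ, Subgroup.card_top]]
    exact Subgroup.card_mul_index _
  haveI : Finite ↥(Tg hq hK) := Finite.of_surjective θ hθ
  exact Nat.le_of_mul_le_mul_right (by rw [h1, h2]; exact hle) Nat.card_pos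

end CfsgLib.Known.E6TwoMult
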