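import Cfsg.Agent.Lib.Known.E6TwoMult.TwoPart
import Cfsg.Agent.Lib.Known.E6TwoMult.OddPart
import Cfsg.Agent.Lib.Schur.Multiplier

/-!
# The Schur multiplier of `2E6(2)` (owner: helper6)
-/

set_option autoImplicit false
set_option linter.unusedSectionVars false
set_option maxRecDepth 20000

namespace CfsgLib.Known.E6TwoMult

open CfsgLib.Lie.Chev CfsgLib.Lie.Chev.TwGroups CfsgLib.PLocal CfsgLib.PLocal.RadTw

universe u

/-- A quotient of a stem extension by a part of its kernel. -/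
theorem stem_quot {Γ : Type u} [Group Γ] [Finite Γ] {Q : Type*} [Group Q] (σ : Γ →* Q)
    (hσ : Cfsg.IsStemExtension σ) (N : Subgroup Γ) [N.Normal] (hN : N ≤ σ.ker) :
    ∃ τ : Γ ⧸ N →* Q, Cfsg.IsStemExtension τ ∧ Nat.card τ.ker * Nat.card N = Nat.card σ.ker ∧
      (∀ y ∈ τ.ker, ∃ x ∈ σ.ker, (QuotientGroup.mk x : Γ ⧸ N) = y) ∧
      ∀ x ∈ σ.ker, (QuotientGroup.mk x : Γ ⧸ N) ∈ τ.ker := by
  obtain ⟨hs, hc, hd⟩ := hσ
  let τ : Γ ⧸ N →* Q := QuotientGroup.lift N σ hN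
  have hτ : ∀ y ∈ τ.ker, ∃ x ∈ σ.ker, (QuotientGroup.mk x : Γ ⧸ N) = y := fun y hy => by
    obtain ⟨x, rfl⟩ := QuotientGroup.mk_surjective y
    exact ⟨x, hy, rfl⟩
  have hτs : Function.Surjective τ := fun g => by
    obtain ⟨x, rfl⟩ := hs g
    exact ⟨QuotientGroup.mk x, rfl⟩
  refine ⟨τ, ⟨hτs, fun y hy => ?_, fun y hy => ?_⟩, ?_, hτ, fun x hx => hx⟩
  · obtain ⟨x, hx, rfl⟩ := hτ y hy
    refine Subgroup.mem_center_iff.2 fun g => ?_
    obtain ⟨g, rfl⟩ := QuotientGroup.mk_surjective g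
    rw [← QuotientGroup.mk_mul, ← QuotientGroup.mk_mul, Subgroup.mem_center_iff.1 (hc hx) g]
  · obtain ⟨x, hx, rfl⟩ := hτ y hy
    have h : (commutator Γ).map (QuotientGroup.mk' N) ≤ commutator (Γ ⧸ N) := by
      rw [commutator_def, commutator_def, Subgroup.map_commutator]
      exact Subgroup.commutator_mono le_top le_top
    exact h ⟨x, hd hx, rfl⟩
  · haveI : Finite Q := Finite.of_surjective σ hs
    have h1 := σ.ker.card_mul_index
    have h2 := τ.ker.card_mul_index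
    have h3 := N.card_mul_index
    rw [Subgroup.index_ker, MonoidHom.range_eq_top.2 hs, Subgroup.card_top] at h1
    rw [Subgroup.index_ker, MonoidHom.range_eq_top.2 hτs, Subgroup.card_top, ← Subgroup.index_eq_card] at h2
    refine Nat.eq_of_mul_eq_mul_right (Nat.card_pos (α := Q)) ?_
    rw [h1, mul_right_comm, h2, mul_comm, h3]

variable {K : Type u} [Field K] [Fintype K] (hq : IsPrimePow 2) (hK : Fintype.card K = 2 ^ 2)

include hq hK in
theorem card_ker_le {Γ : Type u} [Group Γ] [Finite Γ] (σ : Γ →* ↥(Tg hq hK)) (hσ : Cfsg.IsStemExtension σ) :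
    Nat.card σ.ker ≤ 12 := by
  haveI : Fact (Nat.Prime 2) := ⟨Nat.prime_two⟩
  haveI : CharP K 2 := CharTwo.of_one_ne_zero_of_two_eq_zero one_ne_zero (two_eq hK)
  letI : CommGroup ↥σ.ker :=
    { (inferInstance : Group ↥σ.ker) with
      mul_comm := fun a b => Subtype.ext (Subgroup.mem_center_iff.1 (hσ.2.1 b.2) a) }
  have normal : ∀ L : Subgroup ↥σ.ker, (L.map σ.ker.subtype).Normal := fun L => ⟨fun x hx g => by
    have hk : x ∈ σ.ker := Subgroup.map_subtype_le _ hx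
    rwa [Subgroup.mem_center_iff.1 (hσ.2.1 hk) g, mul_inv_cancel_right]⟩
  have cardmap : ∀ L : Subgroup ↥σ.ker, Nat.card ↥(L.map σ.ker.subtype) = Nat.card ↥L := fun L =>
    Subgroup.card_map_of_injective σ.ker.subtype_injective
  let sq : ↥σ.ker →* ↥σ.ker := powMonoidHom 2
  let N4 : Subgroup ↥σ.ker := (powMonoidHom 4 : ↥σ.ker →* ↥σ.ker).range
  -- the quotient by fourth powers
  haveI := normal N4
  obtain ⟨τ, hτ, hcτ, hτm, hmτ⟩ := stem_quot σ hσ (N4.map σ.ker.subtype) (Subgroup.map_subtype_le _)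
  obtain ⟨h4le, h4sq⟩ := two_part hq hK τ hτ (fun y hy => by
    obtain ⟨x, hx, rfl⟩ := hτm y hy
    rw [← QuotientGroup.mk_pow, QuotientGroup.eq_one_iff]
    exact ⟨(⟨x, hx⟩ : ↥σ.ker) ^ 4, ⟨⟨x, hx⟩, rfl⟩, rfl⟩)
  have hsq4 : sq.range = N4 := by
    refine le_antisymm ?_ ?_
    · rintro _ ⟨x, rfl⟩
      have h := h4sq _ (hmτ x x.2)
      rw [← QuotientGroup.mk_mul, QuotientGroup.eq_one_iff] at h
      obtain ⟨w, hw, e⟩ := h
      have : sq x = w := Subtype.ext (by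
        show ((x : ↥σ.ker) ^ 2 : ↥σ.ker).1 = _
        rw [Subgroup.coe_pow, pow_two]
        exact e.symm)
      rw [this]; exact hw
    · rintro _ ⟨x, rfl⟩
      exact ⟨x ^ 2, by simp [sq, ← pow_mul]⟩
  -- the squares have odd order
  have hodd : Odd (Nat.card ↥sq.range) := by
    let s2 : ↥sq.range →* ↥sq.range := (sq.comp sq.range.subtype).codRestrict _ fun x => ⟨x, rfl⟩
    have hs2 : Function.Surjective s2 := fun y => by
      obtain ⟨x, hx⟩ : (y : ↥σ.ker) ∈ N4 := hsq4 ▸ y.2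
      refine ⟨⟨sq x, x, rfl⟩, Subtype.ext ?_⟩
      show (x ^ 2) ^ 2 = (y : ↥σ.ker)
      rw [← pow_mul, ← hx]; rfl
    have hi2 := Finite.injective_iff_surjective.2 hs2
    rw [Nat.odd_iff, ← Nat.two_dvd_ne_zero]
    intro hdvd
    obtain ⟨g, hg⟩ := exists_prime_orderOf_dvd_card' 2 hdvd
    have h1 : s2 g = s2 1 := by
      rw [map_one]
      refine Subtype.ext ?_
      have h2 : g ^ 2 = 1 := by
        have := pow_orderOf_eq_one g
        rwa [hg] at this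
      show (g : ↥σ.ker) ^ 2 = 1
      rw [← Subgroup.coe_pow, h2]
      rfl
    rw [hi2 h1, orderOf_one] at hg
    omega
  have hT : Nat.card ↥sq.ker * Nat.card ↥sq.range = Nat.card ↥σ.ker := by
    rw [← Subgroup.index_ker]
    exact sq.ker.card_mul_index
  -- the kernel of squaring is the two part
  have hT4 : Nat.card ↥sq.ker ≤ 4 := by
    refine le_of_eq_of_le ?_ h4le
    refine Nat.eq_of_mul_eq_mul_right (Nat.card_pos (α := ↥sq.range)) ?_
    rw [hT, ← hcτ, cardmap, hsq4]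
  haveI := normal sq.ker
  obtain ⟨ρ, hρ, hcρ, -⟩ := stem_quot σ hσ (sq.ker.map σ.ker.subtype) (Subgroup.map_subtype_le _)
  have hρc : Nat.card ρ.ker = Nat.card ↥sq.range := by
    refine Nat.eq_of_mul_eq_mul_right (Nat.card_pos (α := ↥sq.ker)) ?_
    rw [mul_comm _ (Nat.card ↥sq.ker), mul_comm (Nat.card ↥sq.range), hT, ← hcρ, cardmap, mul_comm]
  have h3 : Nat.card ρ.ker ≤ 3 := by
    refine (card_ker_of_coprime hq hK 2 ρ hρ (Nat.coprime_two_left.2 (hρc ▸ hodd))).trans (le_of_eq ?_)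
    rw [E6Mult.card_cker hq hK 2]; rfl
  rw [← hT, ← hρc]
  calc _ ≤ 4 * 3 := Nat.mul_le_mul hT4 h3
    _ = 12 := rfl

include hK in
/-- The Schur multiplier of `2E6(2)`. -/
theorem hasSchurMultiplier :
    Cfsg.HasSchurMultiplier ↥(Cfsg.Lie.twistedE6 K 2) (Multiplicative (ZMod 3 × ZMod 2 × ZMod 2)) := by
  have hq2 : IsPrimePow 2 := Nat.prime_two.isPrimePow
  haveI := finite_Tg hq2 hK
  let e : ↥(Tg hq2 hK) ≃* ↥(Cfsg.Lie.twistedE6 K 2) := Subgroup.subgroupOfEquivOfLe (twE6_le (K := K) (q := 2))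
  haveI : Finite ↥(Cfsg.Lie.twistedE6 K 2) := Finite.of_equiv _ e.toEquiv
  obtain ⟨G, _, τ, hτ, ⟨eA⟩⟩ := exists_twelve hq2 hK
  refine CfsgLib.Schur.hasSchurMultiplier_of_witness τ hτ eA fun Γ _ _ σ hσ => ?_
  obtain ⟨h, hk⟩ := stem_comp e.symm σ hσ
  have h1 := card_ker_le hq2 hK _ h
  rw [hk] at h1
  refine h1.trans (le_of_eq ?_)
  simp [Nat.card_prod]

end CfsgLib.Known.E6TwoMult
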