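import Cfsg.Agent.Lib.Known.E6TwoMult.ClassChecks

/-!
# The double cover of the unipotent group and its partial automorphisms (owner: helper6)
-/

set_option autoImplicit false

namespace CfsgLib.Known.E6TwoMult

open Tab

/-- The coefficient group. -/
abbrev V4 : Type := Multiplicative (ZMod 2 × ZMod 2)

/-- A value from its code. -/
def enc (c : ℕ) : V4 := Multiplicative.ofAdd ((c : ZMod 2), ((c / 2 : ℕ) : ZMod 2))

/-- The value of a tail. -/
def dv (e : ℕ) : V4 := enc (clsL.getD e 0)

theorem v4_sq : ∀ z : V4, z * z = 1 := by decide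

theorem enc_xor : ∀ a < 4, ∀ b < 4, enc (Nat.xor a b) = enc a * enc b := by decide

theorem xor_lt4 {a b : ℕ} (ha : a < 4) (hb : b < 4) : Nat.xor a b < 4 :=
  Nat.xor_lt_two_pow (n := 2) ha hb

theorem getD_lt {l : List ℕ} (h : (l.all fun c => Nat.blt c 4) = true) (e : ℕ) : l.getD e 0 < 4 := by
  by_cases he : e < l.length
  · rw [List.getD_eq_getElem _ _ he]
    exact Nat.blt_eq.mp (List.all_eq_true.1 h _ (List.getElem_mem he))
  · rw [List.getD_eq_default _ _ (Nat.le_of_not_lt he)]
    norm_num

theorem shf_lt (k g : ℕ) : shf k g < 4 := by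
  unfold shf
  by_cases hk : k < shiftL.length
  · rw [List.getD_eq_getElem _ _ hk]
    exact getD_lt (List.all_eq_true.1 cls_lt.2 _ (List.getElem_mem hk)) g
  · rw [List.getD_eq_default (l := shiftL) _ (Nat.le_of_not_lt hk)]
    simp

theorem foldr_xor (v : ℕ → ℕ) (hv : ∀ e, v e < 4) : ∀ t : List ℕ,
    t.foldr (fun e r => (v e).xor r) 0 < 4 ∧
      enc (t.foldr (fun e r => (v e).xor r) 0) = (t.map fun e => enc (v e)).prod
  | [] => ⟨by norm_num, show enc 0 = 1 by decide⟩
  | e :: t => by
    obtain ⟨h1, h2⟩ := foldr_xor v hv t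
    exact ⟨xor_lt4 (hv e) h1, by rw [List.foldr_cons, enc_xor _ (hv e) _ h1, h2]; rfl⟩

theorem tzC_spec (t : List ℕ) (h : tzC t = true) : (t.map dv).prod = 1 := by
  rw [show (t.map dv) = t.map fun e => enc (clsL.getD e 0) from rfl,
    ← (foldr_xor _ (getD_lt cls_lt.1) t).2, Nat.eq_of_beq_eq_true h]
  rfl

theorem tzS_spec {k : ℕ} {gs t : List ℕ} (h : tzS k gs t = true) :
    (gs.map fun g => enc (shf k g)).prod * (t.map dv).prod = 1 := by
  obtain ⟨a1, a2⟩ := foldr_xor _ (shf_lt k) gs
  obtain ⟨b1, b2⟩ := foldr_xor _ (getD_lt cls_lt.1) t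
  rw [← a2, show (t.map dv) = t.map fun e => enc (clsL.getD e 0) from rfl, ← b2, ← enc_xor _ a1 _ b1,
    Nat.eq_of_beq_eq_true h]
  rfl

theorem dv_sq : ∀ x < tabU.n, dv x = 1 := fun x hx => by
  rw [dv, Nat.eq_of_beq_eq_true (List.all_eq_true.1 cls_sq x (List.mem_range.2 hx))]
  decide

theorem exists_model : ∃ (M : Type) (_ : Group M) (a : ℕ → M) (ι : V4 →* M),
    IsLvl (T := tabU) dv allG 0 M a ι := by
  have h := exists_lvl (T := tabU) v4_sq tzC tzC_spec dv_sq allG fuel
    (fun k hk => Or.inr (List.all_eq_true.1 step_all k (List.mem_range.2 hk))) tabU.n le_rfl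
  rwa [Nat.sub_self] at h

/-- The group with the class. -/
def UT : Type := exists_model.choose

noncomputable instance : Group UT := exists_model.choose_spec.choose

/-- Its generators. -/
noncomputable def aU : ℕ → UT := exists_model.choose_spec.choose_spec.choose

/-- Its centre part. -/
noncomputable def ιU : V4 →* UT := exists_model.choose_spec.choose_spec.choose_spec.choose

theorem ut_lvl : IsLvl (T := tabU) dv allG 0 UT aU ιU :=
  exists_model.choose_spec.choose_spec.choose_spec.choose_spec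

instance : Finite UT := by
  refine Nat.finite_of_card_ne_zero ?_
  rw [ut_lvl.card]
  exact mul_ne_zero Nat.card_pos.ne' (pow_ne_zero _ two_ne_zero)

theorem levL_all : tabU.levL allG 0 = List.range' 0 36 := List.filter_eq_self.2 fun _ _ => rfl

theorem card_UT : Nat.card UT = 4 * 2 ^ 36 := by
  rw [ut_lvl.card, levL_all, List.length_range', Nat.card_congr Multiplicative.toAdd, Nat.card_prod, Nat.card_zmod]

theorem card_sublists (L : List ℕ) (h : L.Nodup) : Nat.card {l : List ℕ // l.Sublist L} = 2 ^ L.length := by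
  rw [← List.length_sublists]
  rw [← List.toFinset_card_of_nodup (List.nodup_sublists.2 h), ← Nat.card_eq_finsetCard]
  exact Nat.card_congr (Equiv.subtypeEquivRight fun l => by rw [List.mem_toFinset, List.mem_sublists])

theorem nf_unique {z z' : V4} {l l' : List ℕ} (hl : l.Sublist (List.range' 0 36)) (hl' : l'.Sublist (List.range' 0 36))
    (h : ιU z * (l.map aU).prod = ιU z' * (l'.map aU).prod) : z = z' ∧ l = l' := by
  let F : V4 × {l : List ℕ // l.Sublist (List.range' 0 36)} → UT := fun p => ιU p.1 * (p.2.1.map aU).prod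
  have hF : Function.Surjective F := fun y => by
    obtain ⟨z, l, hl, e⟩ := ut_lvl.nf y
    exact ⟨(z, ⟨l, levL_all ▸ hl⟩), e.symm⟩
  haveI : Finite (V4 × {l : List ℕ // l.Sublist (List.range' 0 36)}) := by
    refine Nat.finite_of_card_ne_zero ?_
    rw [Nat.card_prod, card_sublists _ List.nodup_range']
    exact mul_ne_zero Nat.card_pos.ne' (pow_ne_zero _ two_ne_zero)
  have hb : Function.Bijective F := (Nat.bijective_iff_surjective_and_card F).2 ⟨hF, by
    rw [card_UT, Nat.card_prod, card_sublists _ List.nodup_range', List.length_range',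
      Nat.card_congr Multiplicative.toAdd, Nat.card_prod, Nat.card_zmod]⟩
  have e := @hb.1 (z, ⟨l, hl⟩) (z', ⟨l', hl'⟩) h
  exact ⟨(Prod.ext_iff.1 e).1, congrArg Subtype.val (Prod.ext_iff.1 e).2⟩

theorem ιU_injective : Function.Injective ιU := fun z z' h =>
  (nf_unique (l := []) (l' := []) (List.nil_sublist _) (List.nil_sublist _) (by simp [h])).1

/-- The preimage of the part moved by kind `k`. -/
noncomputable def UK (k : ℕ) : Subgroup UT :=
  Subgroup.closure (Set.range ιU ∪ {g | ∃ i, tabU.lev (keepF k) 0 i = true ∧ g = aU i})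

theorem lev_all {i : ℕ} (hi : i < 36) : tabU.lev allG 0 i = true := lev_iff.2 ⟨Nat.zero_le _, rfl, hi⟩

/-- The new image of a generator. -/
noncomputable def bK (k i : ℕ) : UT := ((img k i).map aU).prod * ιU (enc (shf k i))

theorem aut_holds {k : ℕ} (hk : k < 5) :
    tabU.Holds (tabU.lev (keepF k) 0) (bK k) fun e => ιU (dv e) := by
  have hc := List.all_eq_true.1 aut_all k (List.mem_range.2 hk)
  simp only [autChk, List.all_eq_true, List.mem_range, Bool.or_eq_true, Bool.not_eq_true', Bool.and_eq_true,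
    beq_iff_eq, List.isEmpty_iff] at hc
  have H : tabU.Holds (tabU.lev allG 0) aU fun e => ιU (dv e) := ut_lvl.holds
  have hι : ∀ t : List ℕ, (t.map fun e => ιU (dv e)).prod = ιU (t.map dv).prod := fun t => by
    rw [map_list_prod, List.map_map]; rfl
  have hw : ∀ w : List ℕ, (w.map (bK k)).prod =
      ((w.flatMap (img k)).map aU).prod * ιU (w.map fun g => enc (shf k g)).prod := by
    intro w
    induction w with
    | nil => simp
    | cons e w ih =>
      simp only [List.map_cons, List.prod_cons, List.flatMap_cons, List.map_append, List.prod_append, ih, map_mul]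
      rw [bK, mul_assoc, ← mul_assoc (ιU _), ut_lvl.cen]
      simp only [mul_assoc]
  have hP : ∀ i, tabU.lev (keepF k) 0 i = true → _ := fun i hi =>
    (hc i (lev_iff.1 hi).2.2).resolve_left (by rw [hi]; exact Bool.noConfusion)
  refine ⟨fun e g => ut_lvl.cen _ g, fun x hx hn => ?_, fun i x hx hi hlt hn => ?_⟩
  · obtain ⟨⟨h1, h2⟩, -⟩ := hP x hx
    have e := H.collect_spec fuel (img k x ++ img k x)
    rw [h1, List.map_nil, List.prod_nil, one_mul, hι, List.map_append, List.prod_append] at e
    have e2 := tzS_spec h2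
    simp only [List.map_append, List.prod_append, List.map_cons, List.map_nil, List.prod_cons, List.prod_nil, mul_one,
      one_mul, dv_sq x hn] at e2
    show bK k x * bK k x = ιU (dv x)
    rw [bK, mul_assoc, ← mul_assoc (ιU _), ut_lvl.cen, mul_assoc, ← mul_assoc, e, e2, dv_sq x hn, map_one, one_mul,
      ← map_mul, v4_sq, map_one]
  · obtain ⟨-, h⟩ := hP i hi
    obtain ⟨h1, h2⟩ := (h x hlt).resolve_left (by rw [hx]; exact Bool.noConfusion)
    have e := H.eq_of_collect fuel h1
    rw [hι, hι] at e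
    simp only [List.map_append, List.prod_append] at e
    have e2 := tzS_spec h2
    simp only [List.map_append, List.prod_append, List.map_cons, List.map_nil, List.prod_cons, List.prod_nil,
      mul_one] at e2
    show bK k i * bK k x = bK k x * ((tabU.rst i x).map (bK k)).prod * ιU (dv (tabU.pid i x))
    rw [hw]
    simp only [bK]
    set P := ((img k i).map aU).prod
    set Q := ((img k x).map aU).prod
    set W := (((tabU.rst i x).flatMap (img k)).map aU).prod
    set U := ((tabU.collect (tabU.lev allG 0) fuel (img k i ++ img k x)).2.map dv).prod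
    set V := ((tabU.collect (tabU.lev allG 0) fuel (img k x ++ (tabU.rst i x).flatMap (img k))).2.map dv).prod
    set S := ((tabU.rst i x).map fun g => enc (shf k g)).prod
    set si := enc (shf k i)
    set sx := enc (shf k x)
    set p := dv (tabU.pid i x)
    have eP : P * ιU si * (Q * ιU sx) = P * Q * ιU (si * sx) := by
      rw [map_mul, mul_assoc, ← mul_assoc (ιU _), ut_lvl.cen]; simp only [mul_assoc]
    have eQ : Q * ιU sx * (W * ιU S) * ιU p = Q * W * ιU (sx * (S * p)) := by
      rw [map_mul, map_mul, mul_assoc Q, ← mul_assoc (ιU _) W, ut_lvl.cen, mul_assoc W]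
      simp only [mul_assoc]
    rw [eP, eQ]
    have e3 : P * Q = Q * W * ιU (U * V) := by
      calc P * Q = P * Q * ιU (V * V) := by rw [v4_sq, map_one, mul_one]
        _ = P * Q * ιU V * ιU V := by rw [map_mul]; simp only [mul_assoc]
        _ = _ := by rw [e, map_mul]; simp only [mul_assoc]
    rw [e3, mul_assoc (Q * W), ← map_mul]
    congr 2
    have e4 : (U * V * (si * sx)) * (sx * (S * p)) = 1 := by rw [← e2]; ac_rfl
    rw [eq_inv_of_mul_eq_one_left e4, inv_eq_of_mul_eq_one_left (v4_sq _)]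

theorem exists_part {k : ℕ} (hk : k < 5) : ∃ φ : ↥(UK k) →* UT,
    (∀ (i : ℕ) (h : aU i ∈ UK k), tabU.lev (keepF k) 0 i = true → φ ⟨aU i, h⟩ = bK k i) ∧
      ∀ (z : V4) (h : ιU z ∈ UK k), φ ⟨ιU z, h⟩ = ιU z := by
  have hlev := exists_lvl (T := tabU) v4_sq tzC tzC_spec dv_sq (keepF k) fuel (fun j hj => by
    have := List.all_eq_true.1 (List.all_eq_true.1 step_keep k (List.mem_range.2 hk)) j (List.mem_range.2 hj)
    simpa using this) tabU.n le_rfl
  rw [Nat.sub_self] at hlev
  obtain ⟨N, iN, a, ι, L⟩ := hlev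
  have H : tabU.Holds (tabU.lev allG 0) aU fun e => ιU (dv e) := ut_lvl.holds
  have hsub : ∀ i, tabU.lev (keepF k) 0 i = true → tabU.lev allG 0 i = true := fun i hi =>
    lev_all (lev_iff.1 hi).2.2
  obtain ⟨f, hf, hf'⟩ := L.univ UT aU ιU ut_lvl.cen ⟨H.central, fun x hx hn => H.sq x (hsub x hx) hn,
    fun i x hx hi h hn => H.comm i x (hsub x hx) (hsub i hi) h hn⟩
  obtain ⟨g, hg, hg'⟩ := L.univ UT (bK k) ιU ut_lvl.cen (aut_holds hk)
  have hmem : ∀ y, f y ∈ UK k := fun y => by
    obtain ⟨z, l, hl, rfl⟩ := L.nf y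
    rw [map_mul, hf', map_list_prod, List.map_map]
    refine mul_mem (Subgroup.subset_closure (Or.inl ⟨z, rfl⟩)) (list_prod_mem ?_)
    intro x hx
    obtain ⟨i, hi, rfl⟩ := List.mem_map.1 hx
    have hm := List.mem_filter.1 (hl.subset hi)
    have hi' : tabU.lev (keepF k) 0 i = true :=
      lev_iff.2 ⟨Nat.zero_le _, hm.2, by have := (List.mem_range'_1.1 hm.1).2; omega⟩
    exact Subgroup.subset_closure (Or.inr ⟨i, hi', hf i hi'⟩)
  let F : N →* ↥(UK k) := f.codRestrict _ hmem
  have hFs : Function.Surjective F := by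
    rintro ⟨x, hx⟩
    have : UK k ≤ f.range := (Subgroup.closure_le _).2 (by
      rintro _ (⟨z, rfl⟩ | ⟨i, hi, rfl⟩)
      · exact ⟨ι z, hf' z⟩
      · exact ⟨a i, hf i hi⟩)
    obtain ⟨y, rfl⟩ := this hx
    exact ⟨y, rfl⟩
  have hFi : Function.Injective F := (injective_iff_map_eq_one F).2 fun y hy => by
    obtain ⟨z, l, hl, rfl⟩ := L.nf y
    have e : f (ι z * (l.map a).prod) = 1 := congrArg Subtype.val hy
    rw [map_mul, hf', map_list_prod, List.map_map, show l.map (⇑f ∘ a) = l.map aU from
      List.map_congr_left fun i hi => hf i (lev_iff.2 ⟨Nat.zero_le _, (List.mem_filter.1 (hl.subset hi)).2, by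
        have := (List.mem_range'_1.1 (List.mem_filter.1 (hl.subset hi)).1).2; omega⟩)] at e
    obtain ⟨rfl, rfl⟩ := nf_unique (z := z) (z' := 1) (l := l) (l' := [])
      (hl.trans List.filter_sublist) (List.nil_sublist _) (by simpa using e)
    simp
  let eF : N ≃* ↥(UK k) := MulEquiv.ofBijective F ⟨hFi, hFs⟩
  refine ⟨g.comp eF.symm.toMonoidHom, fun i h hi => ?_, fun z h => ?_⟩
  · have : eF.symm ⟨aU i, h⟩ = a i := (MulEquiv.symm_apply_eq _).2 (Subtype.ext (hf i hi).symm)
    simp [this, hg i hi]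
  · have : eF.symm ⟨ιU z, h⟩ = ι z := (MulEquiv.symm_apply_eq _).2 (Subtype.ext (hf' z).symm)
    simp [this, hg' z]

end CfsgLib.Known.E6TwoMult
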