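import Cfsg.Agent.Lib.Known.E6TwoMult.CertChecks

/-! The certificate on the pairs, part 1 (owner: helper6). -/

set_option autoImplicit false
set_option maxRecDepth 100000

namespace CfsgLib.Known.E6TwoMult

theorem pairs_ok1 : ((List.range' 10 12).all fun a => (List.range (a + 1)).all fun b => pairChk a b) = true := by
  decide +kernel

end CfsgLib.Known.E6TwoMult
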