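import Cfsg.Agent.Lib.Schur.CertTransfer

/-!
# Transfer of a stable central extension of a subgroup of odd index (owner: helper6)

A central extension of the image of `π` by a group of exponent two which is stable under conjugation gives a
stem extension of the whole group, as soon as commutators of lifts of commuting elements generate the kernel.
-/

set_option autoImplicit false

namespace CfsgLib.Known.E6TwoMult

open CfsgLib.Schur.TransferCocycle

universe u v w

variable {G : Type u} [Group G] {E : Type w} [Group E] {A : Type v} [AddCommGroup A] (π : E →* G)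
  (ι : Multiplicative A →* E)

/-- Elements carried back into the image by conjugation. -/
def Dom (g : G) : Subgroup E := π.range.comap ((MulAut.conj g⁻¹).toMonoidHom.comp π)

theorem mem_Dom {g : G} {x : E} : x ∈ Dom π g ↔ g⁻¹ * π x * g ∈ π.range := by
  simp [Dom]

/-- Conjugation by `g` lifts to the extension. -/
def Good (g : G) : Prop :=
  ∃ φ : ↥(Dom π g) →* E, (∀ x : ↥(Dom π g), π (φ x) = g⁻¹ * π (x : E) * g) ∧
    ∀ z (h : ι z ∈ Dom π g), φ ⟨ι z, h⟩ = ι z

variable {π ι}

theorem good_range (hcen : ∀ z (x : E), ι z * x = x * ι z) (y : E) : Good π ι (π y) := by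
  refine ⟨(MulAut.conj y⁻¹).toMonoidHom.comp (Dom π (π y)).subtype, fun x => by simp, fun z h => ?_⟩
  show y⁻¹ * ι z * (y⁻¹)⁻¹ = ι z
  rw [inv_inv, mul_assoc, hcen, inv_mul_cancel_left]

theorem Good.mul {g h : G} (hg : Good π ι g) (hh : Good π ι h) (hd : Dom π (g * h) ≤ Dom π g) :
    Good π ι (g * h) := by
  obtain ⟨φ, f1, f2⟩ := hg
  obtain ⟨ψ, p1, p2⟩ := hh
  have hm : ∀ x : ↥(Dom π (g * h)), φ (Subgroup.inclusion hd x) ∈ Dom π h := fun x => by
    rw [mem_Dom, f1]
    simpa [mul_assoc] using mem_Dom π |>.1 x.2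
  refine ⟨ψ.comp ((φ.comp (Subgroup.inclusion hd)).codRestrict _ hm), fun x => ?_, fun z hz => ?_⟩
  · show π (ψ ⟨φ (Subgroup.inclusion hd x), hm x⟩) = _
    rw [p1]
    show h⁻¹ * π (φ (Subgroup.inclusion hd x)) * h = _
    rw [f1]
    simp [mul_assoc]
  · show ψ ⟨φ (Subgroup.inclusion hd ⟨ι z, hz⟩), hm _⟩ = _
    have e : φ (Subgroup.inclusion hd ⟨ι z, hz⟩) = ι z := f2 z (hd hz)
    have hz' : ι z ∈ Dom π h := e ▸ hm ⟨ι z, hz⟩
    rw [show (⟨φ (Subgroup.inclusion hd ⟨ι z, hz⟩), hm _⟩ : ↥(Dom π h)) = ⟨ι z, hz'⟩ from Subtype.ext e, p2]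

/-- A stable extension whose commutators generate gives a stem extension of the group. -/
theorem exists_stem [Finite G] (hι : Function.Injective ι) (hker : π.ker = ι.range)
    (hcen : ∀ z (x : E), ι z * x = x * ι z) (h2 : ∀ a : A, a + a = 0) (hodd : Odd π.range.index)
    (hst : ∀ g, Good π ι g) (S : Set A)
    (hS : ∀ a ∈ S, ∃ x y : E, π x * π y = π y * π x ∧ x * y = ι (Multiplicative.ofAdd a) * (y * x))
    (hgen : AddSubgroup.closure S = ⊤) :
    ∃ C : Cocycle G A, Cfsg.IsStemExtension (Ext.proj : Ext C →* G) := by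
  classical
  set U := π.range
  let s : ↥U → E := fun p => if p = 1 then 1 else p.2.choose
  have hs : ∀ p : ↥U, π (s p) = p := fun p => by
    by_cases h : p = 1
    · simp [s, h]
    · simp only [s, if_neg h]; exact p.2.choose_spec
  have ex : ∀ p q : ↥U, ∃ a : A, ι (Multiplicative.ofAdd a) = s p * s q * (s (p * q))⁻¹ := fun p q => by
    have : s p * s q * (s (p * q))⁻¹ ∈ ι.range := hker ▸ (by simp [MonoidHom.mem_ker, hs])
    obtain ⟨z, hz⟩ := this
    exact ⟨Multiplicative.toAdd z, by rw [← hz]; rfl⟩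
  choose f hf using ex
  have inj : ∀ {a b : A}, ι (Multiplicative.ofAdd a) = ι (Multiplicative.ofAdd b) → a = b :=
    fun h => Multiplicative.ofAdd.injective (hι h)
  have hs1 : s 1 = 1 := by simp [s]
  let C0 : Cocycle ↥U A :=
    { f := f
      one_left := fun p => inj (by rw [hf, one_mul, hs1, one_mul, mul_inv_cancel]; simp)
      one_right := fun p => inj (by rw [hf, mul_one, hs1, mul_one, mul_inv_cancel]; simp)
      cocycle := fun p q r => inj (by
        rw [ofAdd_add, map_mul, ofAdd_add, map_mul]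
        conv_rhs => rw [hf p (q * r), mul_assoc (s p), ← mul_assoc (ι _), hcen, mul_assoc (s p)]
        rw [hf, hf, hf, mul_assoc p q r]
        group) }
  let t : G ⧸ U → G := Quotient.out
  have ht : ∀ q, (QuotientGroup.mk (t q) : G ⧸ U) = q := fun q => QuotientGroup.out_eq' q
  haveI : Fintype (G ⧸ U) := Fintype.ofFinite _
  refine ⟨transfer (MonoidHom.id ↥U) t ht C0, Ext.isStem_of_witness S (fun c hc => ?_) hgen⟩
  obtain ⟨x, y, hxy, hc'⟩ := hS c hc
  refine ⟨π x, π y, hxy, ?_⟩
  let D : Subgroup G := Subgroup.closure {π x, π y}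
  have hDU : D ≤ U := (Subgroup.closure_le _).2 (by rintro _ (rfl | rfl) <;> exact ⟨_, rfl⟩)
  let cl : G ⧸ U → MulAction.orbitRel.Quotient ↥D (G ⧸ U) := fun q => Quotient.mk'' q
  let g0 : G ⧸ U → G := fun q => (cl q).out.out
  have hcl : ∀ d ∈ D, ∀ q, g0 (d • q) = g0 q := fun d hd q => by
    have : cl (d • q) = cl q := Quotient.sound' (MulAction.orbitRel_apply.2 ⟨⟨d, hd⟩, rfl⟩)
    simp [g0, this]
  have hτ : ∀ q : G ⧸ U, ∃ e : E, (QuotientGroup.mk (π e * g0 q) : G ⧸ U) = q := fun q => by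
    have h1 : q ∈ MulAction.orbit ↥D (cl q).out :=
      MulAction.orbitRel_apply.1 (Quotient.exact' (Quotient.out_eq' (cl q)).symm)
    obtain ⟨d, hd⟩ := h1
    obtain ⟨e, he⟩ := hDU d.2
    refine ⟨e, ?_⟩
    rw [he]
    conv_rhs => rw [← hd, ← QuotientGroup.out_eq' (cl q).out]
    rfl
  choose τ hτ using hτ
  have hu : ∀ q, ∃ e : E, π e = (π (τ q) * g0 q)⁻¹ * t q := fun q =>
    QuotientGroup.eq.1 ((hτ q).trans (ht q).symm)
  choose ut hut using hu
  choose φ hφ hφι using hst
  let L : G → E → E := fun g h => if hh : h ∈ Dom π g then φ g ⟨h, hh⟩ else 1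
  have L_val : ∀ g h (hh : h ∈ Dom π g), L g h = φ g ⟨h, hh⟩ := fun g h hh => dif_pos hh
  have L_mul : ∀ g h h', h ∈ Dom π g → h' ∈ Dom π g → L g (h * h') = L g h * L g h' := fun g h h' a b => by
    rw [L_val g h a, L_val g h' b, L_val g (h * h') (mul_mem a b), ← map_mul]; rfl
  -- the lifts of the factors of an element of `D`
  let H : E → G ⧸ U → E := fun e q => (τ (π e • q))⁻¹ * e * τ q
  let Lf : E → G ⧸ U → E := fun e q => (ut (π e • q))⁻¹ * L (g0 q) (H e q) * ut q
  have hH : ∀ e, π e ∈ D → ∀ q, H e q ∈ Dom π (g0 q) := fun e he q => by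
    have h1 := hτ (π e • q)
    rw [hcl _ he] at h1
    have h2 : (QuotientGroup.mk (π e * (π (τ q) * g0 q)) : G ⧸ U) = π e • q := by
      conv_rhs => rw [← hτ q]
      rfl
    have h3 := QuotientGroup.eq.1 (h1.trans h2.symm)
    rw [mem_Dom]
    simpa [H, U, mul_assoc] using h3
  have hπ : ∀ e, π e ∈ D → ∀ q, π (Lf e q) = factor (MonoidHom.id ↥U) t ht (π e) q := fun e he q => by
    show π (Lf e q) = (t (π e • q))⁻¹ * π e * t q
    simp only [Lf, map_mul, map_inv, hut]
    rw [L_val _ _ (hH e he q), hφ, hcl _ he]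
    simp only [H, map_mul, map_inv]
    group
  have hz : ∀ e, π e ∈ D → ∀ q, ∃ a : A,
      s (factor (MonoidHom.id ↥U) t ht (π e) q) = ι (Multiplicative.ofAdd a) * Lf e q := fun e he q => by
    have : s (factor (MonoidHom.id ↥U) t ht (π e) q) * (Lf e q)⁻¹ ∈ ι.range := hker ▸ (by
      simp [MonoidHom.mem_ker, hs, hπ e he q])
    obtain ⟨z, hz⟩ := this
    exact ⟨Multiplicative.toAdd z, by rw [ofAdd_toAdd, hz, inv_mul_cancel_right]⟩
  have hxD : π x ∈ D := Subgroup.subset_closure (Or.inl rfl)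
  have hyD : π y ∈ D := Subgroup.subset_closure (Or.inr rfl)
  choose za hza using hz x hxD
  choose zb hzb using hz y hyD
  have key : ∀ q, C0.f (factor (MonoidHom.id ↥U) t ht (π x) (π y • q)) (factor (MonoidHom.id ↥U) t ht (π y) q) -
      C0.f (factor (MonoidHom.id ↥U) t ht (π y) (π x • q)) (factor (MonoidHom.id ↥U) t ht (π x) q) =
        (za (π y • q) - za q) + (zb q - zb (π x • q)) + c := by
    intro q
    have hq : π x • π y • q = π y • π x • q := by rw [smul_smul, smul_smul, hxy]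
    have e0 : factor (MonoidHom.id ↥U) t ht (π x) (π y • q) * factor (MonoidHom.id ↥U) t ht (π y) q =
        factor (MonoidHom.id ↥U) t ht (π y) (π x • q) * factor (MonoidHom.id ↥U) t ht (π x) q := by
      rw [← factor_mul, ← factor_mul, hxy]
    have hI : ι (Multiplicative.ofAdd c) ∈ Dom π (g0 q) := by
      rw [mem_Dom, show π (ι (Multiplicative.ofAdd c)) = 1 from (hker ▸ ⟨_, rfl⟩ : ι _ ∈ π.ker)]
      simp
    have e1 : Lf x (π y • q) * Lf y q = ι (Multiplicative.ofAdd c) * (Lf y (π x • q) * Lf x q) := by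
      have a1 : H x (π y • q) * H y q = (τ (π x • π y • q))⁻¹ * (x * y) * τ q := by simp only [H]; group
      have a2 : H y (π x • q) * H x q = (τ (π y • π x • q))⁻¹ * (y * x) * τ q := by simp only [H]; group
      have a3 : H x (π y • q) * H y q = ι (Multiplicative.ofAdd c) * (H y (π x • q) * H x q) := by
        rw [a1, a2, hq, hc', ← mul_assoc _ (ι _), ← hcen]; group
      have m1 := hH x hxD (π y • q)
      rw [hcl _ hyD] at m1
      have m2 := hH y hyD (π x • q)
      rw [hcl _ hxD] at m2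
      simp only [Lf, hcl _ hyD, hcl _ hxD]
      rw [show ∀ a b c d e f : E, a * b * c * (c⁻¹ * d * e) = a * (b * d) * e from fun a b c d e f => by group]
      · rw [show ∀ a b c d e f : E, a * b * c * (c⁻¹ * d * e) = a * (b * d) * e from fun a b c d e f => by group]
        · rw [← L_mul _ _ _ m1 (hH y hyD q), ← L_mul _ _ _ m2 (hH x hxD q), a3,
            L_mul _ _ _ hI (mul_mem m2 (hH x hxD q)), L_val _ _ hI, hφι, hq, ← mul_assoc _ (ι _), ← hcen]
          group
        · exact 1
      · exact 1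
    refine sub_eq_iff_eq_add.2 (inj ?_)
    rw [ofAdd_add, map_mul, hf, hf, e0, hza, hzb, hza, hzb]
    simp only [ofAdd_add, ofAdd_sub, map_mul, map_div]
    have hc1 : ∀ a, Commute (ι (Multiplicative.ofAdd a)) (Lf x (π y • q)) := fun a => hcen _ _
    have hc2 : ∀ a, Commute (ι (Multiplicative.ofAdd a)) (Lf y (π x • q)) := fun a => hcen _ _
    rw [show ι (Multiplicative.ofAdd (za (π y • q))) * Lf x (π y • q) * (ι (Multiplicative.ofAdd (zb q)) * Lf y q) =
        ι (Multiplicative.ofAdd (za (π y • q))) * ι (Multiplicative.ofAdd (zb q)) * (Lf x (π y • q) * Lf y q) by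
      simp only [mul_assoc, ← mul_assoc (Lf x (π y • q)), ← (hc1 (zb q)).eq], e1,
      show ι (Multiplicative.ofAdd (zb (π x • q))) * Lf y (π x • q) * (ι (Multiplicative.ofAdd (za q)) * Lf x q) =
        ι (Multiplicative.ofAdd (zb (π x • q))) * ι (Multiplicative.ofAdd (za q)) * (Lf y (π x • q) * Lf x q) by
      simp only [mul_assoc, ← mul_assoc (Lf y (π x • q)), ← (hc2 (za q)).eq]]
    simp only [← mul_assoc]
    congr 2
    simp only [← map_mul, ← map_div]
    congr 2
    apply Multiplicative.toAdd.injective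
    simp only [toAdd_mul, toAdd_div, toAdd_ofAdd]
    abel
  show (∑ q, _) - (∑ q, _) = c
  rw [← Finset.sum_sub_distrib, Finset.sum_congr rfl fun q _ => key q, Finset.sum_add_distrib,
    Finset.sum_add_distrib, Finset.sum_sub_distrib, Finset.sum_sub_distrib]
  have e1 := Equiv.sum_comp (MulAction.toPerm (π y)) za
  have e2 := Equiv.sum_comp (MulAction.toPerm (π x)) zb
  simp only [MulAction.toPerm_apply] at e1 e2
  rw [e1, e2, sub_self, sub_self, zero_add, zero_add, Finset.sum_const, Finset.card_univ, ← Nat.card_eq_fintype_card]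
  obtain ⟨n, hn⟩ := hodd
  rw [show Nat.card (G ⧸ U) = 2 * n + 1 from hn, add_smul, one_smul, mul_comm 2 n, mul_smul, two_nsmul, h2,
    smul_zero, zero_add]

end CfsgLib.Known.E6TwoMult
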