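import Cfsg.Agent.Lib.Known.E6TwoMult.GSide
import Cfsg.Agent.Lib.Known.E6TwoMult.Transfer

/-!
# The extension of the unipotent group is stable (owner: helper6)
-/

set_option autoImplicit false
set_option linter.unusedSectionVars false
set_option maxRecDepth 20000

namespace CfsgLib.Known.E6TwoMult

open Tab
open Cfsg.Lie (chevE6)
open CfsgLib.Lie.Chev CfsgLib.Lie.Chev.TwGroups CfsgLib.PLocal CfsgLib.PLocal.RadTw

universe u

theorem class_all : ((List.range 4).all fun k => (List.range' 36 36).all fun r =>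
    Nat.blt (gW k r) 36 == (classList chevE6 auxE6 orbLE6 k).contains r) = true := by decide +kernel

theorem keep_class : ((List.range 4).all fun k => (List.range 36).all fun g =>
    !Nat.ble 36 (gW k (tRoot g)) || keepF k g) = true := by decide +kernel

theorem keep_bar : ((List.range 4).all fun k => (List.range' 36 36).all fun r =>
    Nat.beq (gW k (bar r)) (bar (gW k r))) = true := by decide +kernel

theorem keep_torus : ((List.range 36).all fun g => keepF 4 g) = true := by decide +kernel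

theorem img_lt : ((List.range 5).all fun k => (List.range 36).all fun g => (img k g).all (Nat.blt · 36)) = true := by
  decide +kernel

theorem twW_lt : ((List.range 36).all fun g => (twW.getD g []).all (Nat.blt · 72)) = true := by decide +kernel

theorem moved : texp 56 % 3 ≠ 0 := by decide +kernel

variable {K : Type u} [Field K] [Fintype K] (hq : IsPrimePow 2) (hK : Fintype.card K = 2 ^ 2)

include hK in
theorem eta_one (i r : ℕ) : ((auxE6.eta i r : ℤ) : K) = 1 := by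
  rcases mul_self_eq_one_iff.1 (auxE6.eta_sq_cast (F := K) i r) with e | e
  · exact e
  · rw [e, neg_eq hK]

include hK in
theorem mon1 (i : Fin chevE6.rank) : (chevRel certE6 K).IsMon ((chevRel certE6 K).ne (chevE6.simple i) 1)
    ((chevRel certE6 K).wperm i) fun _ => 1 := by
  refine (congrArg _ (funext fun r => ?_)).mpr ((chevRel certE6 K).isMon_ne_simple i one_ne_zero)
  rw [one_zpow, mul_one, eta_one hK]

theorem exists_refl (k : ℕ) (hk : k < 4) : ∃ n : (chevRel certE6 K).NS, (n : ↥(chevE6.group K)) ∈ Tg hq hK ∧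
    (∀ r : Rt, (((chevRel certE6 K).nsPerm n r : Rt) : ℕ) = gW k r) ∧ ∃ σ : Equiv.Perm Rt,
      (∀ r : Rt, ((σ r : Rt) : ℕ) = gW k r) ∧ (chevRel certE6 K).IsMon (n : ↥(chevE6.group K)) σ fun _ => 1 := by
  obtain ⟨⟨n2, n4⟩, ⟨n3, n5, n1, n6⟩, ⟨a1, a2, a3⟩, ⟨b1, b2, b3⟩, ⟨s0, s1, s2, s3, s4, s5⟩⟩ := simpleNeg
  have key : ∀ n : (chevRel certE6 K).NS, (n : ↥(chevE6.group K)) ∈ Tg hq hK → ∀ σ : Equiv.Perm Rt,
      (∀ r : Rt, ((σ r : Rt) : ℕ) = gW k r) → (chevRel certE6 K).IsMon (n : ↥(chevE6.group K)) σ (fun _ => 1) →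
      ∃ n : (chevRel certE6 K).NS, (n : ↥(chevE6.group K)) ∈ Tg hq hK ∧
        (∀ r : Rt, (((chevRel certE6 K).nsPerm n r : Rt) : ℕ) = gW k r) ∧ ∃ σ : Equiv.Perm Rt,
          (∀ r : Rt, ((σ r : Rt) : ℕ) = gW k r) ∧ (chevRel certE6 K).IsMon (n : ↥(chevE6.group K)) σ fun _ => 1 :=
    fun n hn σ hσ hm => ⟨n, hn, fun r => by rw [(chevRel certE6 K).nsPerm_eq hm]; exact hσ r, σ, hσ, hm⟩
  have m2 : ∀ i j : Fin chevE6.rank, (chevRel certE6 K).IsMon
      (((chevRel certE6 K).nS i * (chevRel certE6 K).nS j : (chevRel certE6 K).NS) : ↥(chevE6.group K))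
      ((chevRel certE6 K).wperm i * (chevRel certE6 K).wperm j) fun _ => 1 := fun i j => by
    refine (congrArg _ (funext fun r => ?_)).mpr ((chevRel certE6 K).isMon_mul (mon1 hK i) (mon1 hK j))
    rw [mul_one]
  match k, hk with
  | 0, _ =>
    refine key ((chevRel certE6 K).nS ⟨1, by decide⟩) ?_ _ (fun r => ?_) (mon1 hK ⟨1, by decide⟩)
    · show (chevRel certE6 K).ne (chevE6.simple 1) 1 ∈ _
      rw [s1]; exact single_lift hq hK (by decide) (by decide) n2
    · rfl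
  | 1, _ =>
    refine key ((chevRel certE6 K).nS ⟨3, by decide⟩) ?_ _ (fun r => ?_) (mon1 hK ⟨3, by decide⟩)
    · show (chevRel certE6 K).ne (chevE6.simple 3) 1 ∈ _
      rw [s3]; exact single_lift hq hK (by decide) (by decide) n4
    · rfl
  | 2, _ =>
    refine key ((chevRel certE6 K).nS ⟨2, by decide⟩ * (chevRel certE6 K).nS ⟨4, by decide⟩) ?_ _ (fun r => ?_)
      (m2 ⟨2, by decide⟩ ⟨4, by decide⟩)
    · show (chevRel certE6 K).ne (chevE6.simple 2) 1 * (chevRel certE6 K).ne (chevE6.simple 4) 1 ∈ _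
      rw [s2, s4]; exact pair_lift hq hK (by decide) (by decide) n3 n5 a1 a2 a3
    · rfl
  | 3, _ =>
    refine key ((chevRel certE6 K).nS ⟨0, by decide⟩ * (chevRel certE6 K).nS ⟨5, by decide⟩) ?_ _ (fun r => ?_)
      (m2 ⟨0, by decide⟩ ⟨5, by decide⟩)
    · show (chevRel certE6 K).ne (chevE6.simple 0) 1 * (chevRel certE6 K).ne (chevE6.simple 5) 1 ∈ _
      rw [s0, s5]; exact pair_lift hq hK (by decide) (by decide) n1 n6 b1 b2 b3
    · rfl

include hK in
theorem om_ne : om hK ≠ 0 := fun e => by simpa [e] using om_sq hK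

include hK in
theorem om_cube : om hK ^ (3 : ℤ) = 1 := by
  rw [zpow_ofNat, pow_succ, pow_two]
  linear_combination (om hK + 1) * om_sq hK + (om hK) * two_eq hK

include hK in
theorem om_zpow (z : ℤ) : om hK ^ z = val4 hK (powC (z % 3).toNat) := by
  conv_lhs => rw [← Int.mul_ediv_add_emod z 3, zpow_add₀ (om_ne hK), zpow_mul, om_cube, one_zpow, one_mul]
  have h1 : 0 ≤ z % 3 := Int.emod_nonneg _ (by norm_num)
  have h2 : z % 3 < 3 := Int.emod_lt_of_pos _ (by norm_num)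
  interval_cases h : z % 3 <;> simp [powC, val4, zpow_ofNat, sq, om_sq hK]

theorem powC_lt (n : ℕ) : powC n < 4 := by
  have : n % 3 < 3 := Nat.mod_lt _ (by norm_num)
  unfold powC
  interval_cases n % 3 <;> decide

theorem exists_tor : ∃ n : (chevRel certE6 K).NS, (n : ↥(chevE6.group K)) ∈ Tg hq hK ∧
    (n : ↥(chevE6.group K)) ∈ (chevRel certE6 K).HS ∧
      ∀ (r : Rt) (t : K), (n : ↥(chevE6.group K)) * xG certE6 K r t * (n : ↥(chevE6.group K))⁻¹ =
        xG certE6 K r (val4 hK (powC (texp r)) * t) := by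
  obtain ⟨-, ⟨-, -, n1, n6⟩, -, ⟨b1, b2, b3⟩, ⟨s0, -, -, -, -, s5⟩⟩ := simpleNeg
  have hw : om hK ^ 2 ≠ 0 := pow_ne_zero _ (om_ne hK)
  let a : ↥(chevE6.group K) := (chevRel certE6 K).he (chevE6.simple (⟨0, by decide⟩ : Fin chevE6.rank)) (om hK)
  let b : ↥(chevE6.group K) := (chevRel certE6 K).he (chevE6.simple (⟨5, by decide⟩ : Fin chevE6.rank)) (om hK ^ 2)
  have hH : a * b ∈ (chevRel certE6 K).HS :=
    mul_mem ((chevRel certE6 K).he_mem_HS _ (om_ne hK)) ((chevRel certE6 K).he_mem_HS _ hw)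
  refine ⟨⟨a * b, Subgroup.mem_sup_left hH⟩, ?_, hH, fun r t => ?_⟩
  · show (chevRel certE6 K).he (chevE6.simple 0) (om hK) * (chevRel certE6 K).he (chevE6.simple 5) (om hK ^ 2) ∈ _
    rw [s0, s5]
    exact he_pair_mem hq hK (by decide) (by decide) n1 n6 b1 b2 b3 heDataE6.2.2.1 _
  · have h := ((chevRel certE6 K).isMon_mul
      ((chevRel certE6 K).isMon_he_simple (⟨0, by decide⟩ : Fin chevE6.rank) (om_ne hK))
      ((chevRel certE6 K).isMon_he_simple (⟨5, by decide⟩ : Fin chevE6.rank) hw) r).2.2.2 t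
    refine h.trans (congrArg (fun c => xG certE6 K r (c * t)) ?_)
    show om hK ^ chevE6.cartan 0 r * (om hK ^ 2) ^ chevE6.cartan 5 r = _
    rw [← zpow_natCast, ← zpow_mul, ← zpow_add₀ (om_ne hK), om_zpow]
    rfl

/-- A representative of a kind. -/
theorem exists_kind (k : ℕ) (hk : k < 5) : ∃ n : (chevRel certE6 K).NS, (n : ↥(chevE6.group K)) ∈ Tg hq hK ∧
    (k < 4 → ∀ r : Rt, (((chevRel certE6 K).nsPerm n r : Rt) : ℕ) = gW k r) ∧
    (k = 4 → (n : ↥(chevE6.group K)) ∈ (chevRel certE6 K).HS ∧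
      ∀ (r : Rt) (t : K), (n : ↥(chevE6.group K)) * xG certE6 K r t * (n : ↥(chevE6.group K))⁻¹ =
        xG certE6 K r (val4 hK (powC (texp r)) * t)) ∧
    ∀ g, g < 72 → (k = 4 ∨ 36 ≤ gW k (groot g)) →
      (n : ↥(chevE6.group K)) * xa hK g * (n : ↥(chevE6.group K))⁻¹ = ((mv k g).map (xa hK)).prod := by
  rcases Nat.lt_or_eq_of_le (Nat.le_of_lt_succ hk) with h4 | rfl
  · obtain ⟨n, hn, hp, σ, hσ, hm⟩ := exists_refl hq hK k h4
    refine ⟨n, hn, fun _ => hp, fun e => absurd e h4.ne, fun g hg h => ?_⟩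
    have hk' : Nat.beq k 4 = false := by
      cases hb : Nat.beq k 4
      · rfl
      · exact absurd (Nat.eq_of_beq_eq_true hb) h4.ne
    rw [mv, hk', cond_false, xa_code hK (h.resolve_left h4.ne), xa]
    refine ((hm ⟨groot g, groot_lt hg⟩).2.2.2 _).trans ?_
    show xG certE6 K (σ ⟨groot g, groot_lt hg⟩ : ℕ) (1 * _) = _
    rw [one_mul, hσ]
  · obtain ⟨n, hn, hH, h⟩ := exists_tor hq hK
    refine ⟨n, hn, fun e => absurd e (lt_irrefl _), fun _ => ⟨hH, h⟩, fun g hg _ => ?_⟩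
    rw [mv, show Nat.beq 4 4 = true from rfl, cond_true, xa_code hK (by unfold groot; omega),
      val4_mul hK (powC_lt _) (gcode_lt _), xa]
    exact h ⟨groot g, groot_lt hg⟩ _

/-- The chosen element of a kind. -/
noncomputable def nK (k : ℕ) (hk : k < 5) : (chevRel certE6 K).NS := (exists_kind hq hK k hk).choose

theorem nK_mem {k : ℕ} (hk : k < 5) : (nK hq hK k hk : ↥(chevE6.group K)) ∈ Tg hq hK :=
  (exists_kind hq hK k hk).choose_spec.1

theorem nK_perm {k : ℕ} (hk : k < 4) (r : Rt) :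
    (((chevRel certE6 K).nsPerm (nK hq hK k (by omega)) r : Rt) : ℕ) = gW k r :=
  (exists_kind hq hK k (by omega)).choose_spec.2.1 hk r

theorem nK_tor : (nK hq hK 4 (by norm_num) : ↥(chevE6.group K)) ∈ (chevRel certE6 K).HS ∧
    ∀ (r : Rt) (t : K), (nK hq hK 4 (by norm_num) : ↥(chevE6.group K)) * xG certE6 K r t *
      (nK hq hK 4 (by norm_num) : ↥(chevE6.group K))⁻¹ = xG certE6 K r (val4 hK (powC (texp r)) * t) :=
  (exists_kind hq hK 4 (by norm_num)).choose_spec.2.2.1 rfl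

/-- The chosen element of a kind in the twisted group. -/
noncomputable def nT (k : ℕ) (hk : k < 5) : ↥(Tg hq hK) := ⟨nK hq hK k hk, nK_mem hq hK hk⟩

theorem conj_list {G : Type*} [Group G] (n : G) (l : List G) :
    n * l.prod * n⁻¹ = (l.map fun x => n * x * n⁻¹).prod := by
  rw [show n * l.prod * n⁻¹ = MulAut.conj n l.prod from rfl, map_list_prod]
  rfl

theorem conj_x0 {k g : ℕ} (hk : k < 5) (hg : g < 36) (hkeep : keepF k g = true) :
    (nK hq hK k hk : ↥(chevE6.group K)) * x0 hK g * (nK hq hK k hk : ↥(chevE6.group K))⁻¹ =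
      ((img k g).map (x0 hK)).prod := by
  have hc := List.all_eq_true.1 (List.all_eq_true.1 conj_all k (List.mem_range.2 hk)) g (List.mem_range.2 hg)
  simp only [hkeep, Bool.not_true, Bool.false_or, Bool.and_eq_true, List.all_eq_true, Bool.or_eq_true,
    beq_iff_eq] at hc
  have e := prod_eq_of_collect hK hc.2
  rw [unT_prod] at e
  rw [← e, x0, conj_list, List.map_flatMap, List.flatMap_def, List.prod_flatten, List.map_map, List.map_map]
  refine congrArg List.prod (List.map_congr_left fun a ha => ?_)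
  refine (exists_kind hq hK k hk).choose_spec.2.2.2 a
    (Nat.blt_eq.mp (List.all_eq_true.1 (List.all_eq_true.1 twW_lt g (List.mem_range.2 hg)) a ha)) ?_
  rcases hc.1 a ha with h | h
  · exact Or.inl (Nat.eq_of_beq_eq_true h)
  · exact Or.inr (Nat.le_of_ble_eq_true h.1)

theorem piU_bK {k i : ℕ} (hk : k < 5) (hi : tabU.lev (keepF k) 0 i = true) :
    piU hq hK (bK k i) = nT hq hK k hk * piU hq hK (aU i) * (nT hq hK k hk)⁻¹ := by
  obtain ⟨-, hkeep, hi'⟩ := lev_iff.1 hi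
  have hi36 : i < 36 := hi'
  have hl : ∀ g ∈ img k i, g < 36 := fun g hg => Nat.blt_eq.mp
    (List.all_eq_true.1 (List.all_eq_true.1 (List.all_eq_true.1 img_lt k (List.mem_range.2 hk)) i
      (List.mem_range.2 hi36)) g hg)
  have e1 : piU hq hK (bK k i) = ((img k i).map (xt hq hK)).prod := by
    rw [bK, map_mul, piU_ι, mul_one, map_list_prod, List.map_map]
    exact congrArg List.prod (List.map_congr_left fun g hg => piU_a hq hK (hl g hg))
  rw [e1, piU_a hq hK hi36]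
  refine Subtype.ext ?_
  rw [xt_prod hq hK _ hl, ← conj_x0 hq hK hk hi36 hkeep, ← xt_val hq hK hi36]
  rfl

/-- Conjugation by a kind on its part. -/
theorem exists_phi {k : ℕ} (hk : k < 5) : ∃ φ : ↥(UK k) →* UT,
    (∀ x : ↥(UK k), piU hq hK (φ x) = nT hq hK k hk * piU hq hK (x : UT) * (nT hq hK k hk)⁻¹) ∧
      ∀ (z : V4) (h : ιU z ∈ UK k), φ ⟨ιU z, h⟩ = ιU z := by
  obtain ⟨φ, h1, h2⟩ := exists_part hk
  refine ⟨φ, ?_, h2⟩
  rintro ⟨x, hx⟩
  show piU hq hK (φ ⟨x, hx⟩) = nT hq hK k hk * piU hq hK x * (nT hq hK k hk)⁻¹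
  induction hx using Subgroup.closure_induction with
  | mem y hy =>
    rcases hy with ⟨z, rfl⟩ | ⟨i, hi, rfl⟩
    · refine (congrArg (piU hq hK) (h2 z (Subgroup.subset_closure (Or.inl ⟨z, rfl⟩)))).trans ?_
      rw [piU_ι, mul_one, mul_inv_cancel]
    · exact (congrArg (piU hq hK) (h1 i (Subgroup.subset_closure (Or.inr ⟨i, hi, rfl⟩)) hi)).trans
        (piU_bK hq hK hk hi)
  | one =>
    rw [show (⟨1, _⟩ : ↥(UK k)) = 1 from rfl, map_one, map_one, mul_one, mul_inv_cancel]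
  | mul y z hy hz ey ez =>
    rw [show (⟨y * z, _⟩ : ↥(UK k)) = ⟨y, hy⟩ * ⟨z, hz⟩ from rfl, map_mul, map_mul, ey, ez, map_mul (piU hq hK)]
    group
  | inv y hy ey =>
    rw [show (⟨y⁻¹, _⟩ : ↥(UK k)) = ⟨y, hy⟩⁻¹ from rfl, map_inv, map_inv, ey, map_inv (piU hq hK)]
    group

theorem aU_mem_UK {k i : ℕ} (hi : i < 36) (h : keepF k i = true) : aU i ∈ UK k :=
  Subgroup.subset_closure (Or.inr ⟨i, lev_iff.2 ⟨Nat.zero_le _, h, hi⟩, rfl⟩)

theorem ι_mem_UK (k : ℕ) (z : V4) : ιU z ∈ UK k := Subgroup.subset_closure (Or.inl ⟨z, rfl⟩)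

theorem UK_four : UK 4 = ⊤ := by
  refine eq_top_iff.2 fun y _ => ?_
  obtain ⟨z, l, hl, rfl⟩ := ut_lvl.nf y
  refine mul_mem (ι_mem_UK 4 z) (list_prod_mem ?_)
  intro x hx
  obtain ⟨i, hi, rfl⟩ := List.mem_map.1 hx
  have h36 : i < 36 := by
    have := List.mem_range'_1.1 (levL_all ▸ hl.subset hi : i ∈ List.range' 0 36)
    omega
  exact aU_mem_UK h36 (List.all_eq_true.1 keep_torus i (List.mem_range.2 h36))

theorem half36 : half chevE6 = 36 := by decide +kernel

theorem dom_le_UK {k : ℕ} (hk : k < 5) : Dom (piU hq hK) (nT hq hK k hk)⁻¹ ≤ UK k := by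
  intro x hx
  rcases Nat.lt_or_eq_of_le (Nat.le_of_lt_succ hk) with h4 | rfl
  swap
  · rw [UK_four]; trivial
  rw [mem_Dom, inv_inv, range_piU, mem_U1] at hx
  have hxU : (piU hq hK x : ↥(chevE6.group K)) ∈ (chevRel certE6 K).UP := by
    rw [← mem_U1, ← range_piU]; exact ⟨x, rfl⟩
  obtain ⟨n0, hn0, hn0'⟩ := (twE6 hq hK).exists_n0
  obtain ⟨a, ha⟩ := (chevRel certE6 K).isMon_nsPerm n0
  have hN : ((n0 * nK hq hK k hk : (chevRel certE6 K).NS) : ↥(chevE6.group K)) ∈ Tg hq hK :=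
    mul_mem hn0 (nK_mem hq hK hk)
  have hcg := inv_mem_CG hq hK _ hN (piU hq hK x) hxU (by
    have h := Rel.IsMon.conj_mem_US (chevRel certE6 K) ha (T := negSet chevE6) (fun r hr => hn0' r hr) hx
    simpa [nT, mul_assoc, Rel.UN] using h)
  have hmap : piU hq hK x ∈ (UK k).map (piU hq hK) := by
    refine CG_le hq hK (fun r hr y hy => ?_) hcg
    have pos : ∀ s : Rt, s ∈ invSet ((chevRel certE6 K).nsPerm (n0 * nK hq hK k hk)) →
        36 ≤ (s : ℕ) ∧ 36 ≤ gW k s := fun s hs => by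
      obtain ⟨h1, h2⟩ := hs
      refine ⟨half36 ▸ h1, ?_⟩
      by_contra hlt
      rw [map_mul, Equiv.Perm.mul_apply] at h2
      set t := (chevRel certE6 K).nsPerm (nK hq hK k hk) s
      have ht : (t : ℕ) = gW k s := nK_perm hq hK h4 s
      have hneg : half chevE6 ≤ ((chevRel certE6 K).negF t : ℕ) :=
        ((chevRel certE6 K).negF_pos_iff t).2 (by rw [half36, ht]; omega)
      have h3 := hn0' _ hneg
      rw [(chevRel certE6 K).nsPerm_negF, (chevRel certE6 K).negF_pos_iff, not_not] at h3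
      exact h2 h3
    obtain ⟨h36, hg36⟩ := pos r (hr (Or.inl rfl))
    obtain ⟨-, hb36⟩ := pos (barF r) (hr (Or.inr rfl))
    refine orb_mem hq hK h36 (fun g hg hroot => aU_mem_UK hg ?_) hy
    have hc := List.all_eq_true.1 (List.all_eq_true.1 keep_class k (List.mem_range.2 h4)) g (List.mem_range.2 hg)
    have hge : 36 ≤ gW k (tRoot g) := by
      rcases hroot with e | e <;> rw [e]
      · exact hg36
      · exact hb36
    simpa [Nat.ble_eq.mpr hge] using hc
  obtain ⟨y, hy, e⟩ := hmap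
  have : y⁻¹ * x ∈ (piU hq hK).ker := by rw [MonoidHom.mem_ker, map_mul, map_inv, e, inv_mul_cancel]
  rw [ker_piU] at this
  obtain ⟨z, hz⟩ := this
  rw [show x = y * ιU z by rw [hz, mul_inv_cancel_left]]
  exact mul_mem hy (ι_mem_UK k z)

/-- The statement that conjugation lifts. -/
abbrev GoodT (g : ↥(Tg hq hK)) : Prop := Good (piU hq hK) ιU g

theorem good_U {g : ↥(Tg hq hK)} (hg : g ∈ U1 hq hK) : GoodT hq hK g := by
  rw [← range_piU] at hg
  obtain ⟨y, rfl⟩ := hg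
  exact good_range ut_lvl.cen y

theorem good_kind {k : ℕ} (hk : k < 5) : GoodT hq hK (nT hq hK k hk)⁻¹ := by
  obtain ⟨φ, h1, h2⟩ := exists_phi hq hK hk
  refine ⟨φ.comp (Subgroup.inclusion (dom_le_UK hq hK hk)), fun x => ?_, fun z h => h2 z _⟩
  show piU hq hK (φ _) = _
  rw [h1, inv_inv]
  rfl

theorem normalizes {g : ↥(Tg hq hK)} (hg : (g : ↥(chevE6.group K)) ∈ (chevRel certE6 K).HS) {x : ↥(Tg hq hK)} :
    g * x * g⁻¹ ∈ U1 hq hK ↔ x ∈ U1 hq hK := by
  rw [mem_U1, mem_U1]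
  exact (Subgroup.mem_normalizer_iff.1 ((chevRel certE6 K).HS_le_normalizer_US _ hg) _).symm

theorem dom_torus {t : ↥(Tg hq hK)} (ht : (t : ↥(chevE6.group K)) ∈ (chevRel certE6 K).HS) (g : ↥(Tg hq hK)) :
    Dom (piU hq hK) (g * t) ≤ Dom (piU hq hK) g := by
  intro x hx
  rw [mem_Dom, range_piU] at hx ⊢
  have := (normalizes hq hK ht).2 hx
  convert this using 1
  group

theorem dom_torus_top {t : ↥(Tg hq hK)} (ht : (t : ↥(chevE6.group K)) ∈ (chevRel certE6 K).HS) (x : UT) :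
    x ∈ Dom (piU hq hK) t := by
  rw [mem_Dom]
  have := (normalizes hq hK (g := t⁻¹) (by simpa using ht) (x := piU hq hK x)).2 (range_piU hq hK ▸ ⟨x, rfl⟩)
  rw [inv_inv] at this
  rwa [range_piU]

theorem card_torus : Nat.card ↥((twE6 hq hK).P1 ⊓ (chevRel certE6 K).HS) = 3 := by
  have h := card_torusE6 hq hK
  rw [show Nat.gcd 3 (2 + 1) = 3 from rfl, show (2 - 1) ^ 4 * (2 + 1) ^ 2 = 9 from rfl] at h
  omega

theorem good_torus {h : ↥(Tg hq hK)} (hh : (h : ↥(chevE6.group K)) ∈ (chevRel certE6 K).HS) : GoodT hq hK h := by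
  haveI : Fact (Nat.Prime 3) := ⟨Nat.prime_three⟩
  haveI := finite_Tg hq hK
  obtain ⟨hH, hconj⟩ := nK_tor hq hK
  set t := nT hq hK 4 (by norm_num)
  have ht1 : t ≠ 1 := by
    intro e
    have h56 : 56 < chevE6.nroots := by decide
    have e2 := hconj ⟨56, h56⟩ 1
    rw [show (nK hq hK 4 (by norm_num) : ↥(chevE6.group K)) = 1 from congrArg Subtype.val e, one_mul, inv_one,
      mul_one, mul_one] at e2
    have e3 := (chevRel certE6 K).xe_inj_param (r := ⟨56, h56⟩) e2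
    have hw := om_sq hK
    have h3 : texp 56 % 3 < 3 := Nat.mod_lt _ (by norm_num)
    have h0 := moved
    change (1 : K) = val4 hK (powC (texp 56)) at e3
    unfold powC at e3
    interval_cases hm : texp 56 % 3
    · exact h0 rfl
    · simp [val4] at e3
      rw [← e3, one_mul] at hw
      exact one_ne_zero (add_eq_left.1 hw.symm)
    · simp [val4] at e3
      exact om_ne hK e3
  let Z : Subgroup ↥(Tg hq hK) := (chevRel certE6 K).HS.comap (Tg hq hK).subtype
  have hZ : Nat.card ↥Z = 3 := by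
    rw [← card_torus hq hK]
    exact Nat.card_congr
      { toFun := fun g => ⟨g.1.1, g.1.2, g.2⟩
        invFun := fun g => ⟨⟨g.1, g.2.1⟩, g.2.2⟩
        left_inv := fun _ => rfl
        right_inv := fun _ => rfl }
  have hmem : (⟨h, hh⟩ : ↥Z) ∈ Submonoid.powers (⟨t⁻¹, inv_mem hH⟩ : ↥Z) :=
    mem_powers_of_prime_card hZ (fun e => ht1 (inv_eq_one.1 (congrArg Subtype.val e)))
  obtain ⟨n, hn⟩ := hmem
  have hn' : (t⁻¹) ^ n = h := congrArg Subtype.val hn
  rw [← hn']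
  clear hn hn' hh h
  induction n with
  | zero => rw [pow_zero]; exact good_U hq hK (one_mem _)
  | succ n ih =>
    rw [pow_succ]
    refine ih.mul (good_kind hq hK (by norm_num)) fun x _ => dom_torus_top hq hK ?_ x
    rw [Subgroup.coe_pow, Subgroup.coe_inv]
    exact pow_mem (inv_mem hH) n

theorem orb_class {k : Fin 4} {r : Rt} : r ∈ posSub chevE6 auxE6 orbE6 k ↔
    (r : ℕ) ∈ classList chevE6 auxE6 orbLE6 k := by
  refine ⟨mem_classList, fun h => ?_⟩
  obtain ⟨h1, -⟩ := classList_lt certE6 orbE6_ho k h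
  rw [classList, List.mem_filter] at h
  refine ⟨h1, fun i hi hik => ?_⟩
  have h3 := List.all_eq_true.1 h.2 i (List.mem_range.2 hi)
  rw [Bool.or_eq_true, nat_beq_iff, decide_eq_true_iff] at h3
  exact h3.resolve_left fun e => hik ⟨⟨i, hi⟩, rfl, Fin.ext ((orbE6_ho ⟨i, hi⟩).symm.trans e)⟩

theorem good_nJ (k : Fin 4) : GoodT hq hK ⟨((twE6 hq hK).nJ k : ↥(chevE6.group K)), (twE6 hq hK).nJ_mem k⟩ := by
  set n := nK hq hK (k : ℕ) (by omega)
  have hinv : invSet ((chevRel certE6 K).nsPerm n) = invSet ((chevRel certE6 K).nsPerm ((twE6 hq hK).nJ k)) := by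
    refine Eq.trans ?_ ((twE6 hq hK).nJ_inv k).symm
    ext r
    refine Iff.trans ?_ orb_class.symm
    show (half chevE6 ≤ (r : ℕ) ∧ ¬ half chevE6 ≤ _) ↔ _
    rw [nK_perm hq hK k.2, half36]
    have hr : (r : ℕ) < 72 := r.2
    by_cases h36 : 36 ≤ (r : ℕ)
    · have hc := List.all_eq_true.1 (List.all_eq_true.1 class_all (k : ℕ) (List.mem_range.2 k.2)) (r : ℕ)
        (List.mem_range'_1.2 ⟨h36, by omega⟩)
      rw [beq_iff_eq] at hc
      rw [← List.contains_iff_mem, ← hc, Nat.blt_eq]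
      omega
    · refine iff_of_false (fun h => h36 h.1) fun h => h36 ?_
      have := (classList_lt certE6 orbE6_ho k h).1
      rwa [half36] at this
  have hperm := (chevRel certE6 K).nsPerm_eq_of_invSet hinv
  have hH : ((n * (twE6 hq hK).nJ k : (chevRel certE6 K).NS) : ↥(chevE6.group K)) ∈ (chevRel certE6 K).HS := by
    refine (chevRel certE6 K).nsPerm_eq_one_of_pos _ fun i => ?_
    rw [map_mul, hperm, Equiv.Perm.mul_apply, (twE6 hq hK).nJ_perm_invol k]
    exact (chevRel certE6 K).sroot_pos i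
  have e : (⟨((twE6 hq hK).nJ k : ↥(chevE6.group K)), (twE6 hq hK).nJ_mem k⟩ : ↥(Tg hq hK)) =
      (nT hq hK (k : ℕ) (by omega))⁻¹ *
        (nT hq hK (k : ℕ) (by omega) * ⟨((twE6 hq hK).nJ k : ↥(chevE6.group K)), (twE6 hq hK).nJ_mem k⟩) := by
    rw [inv_mul_cancel_left]
  rw [e]
  exact (good_kind hq hK _).mul (good_torus hq hK hH) (dom_torus hq hK hH _)

theorem good_NS : ∀ (m : (chevRel certE6 K).NS) (hm : (m : ↥(chevE6.group K)) ∈ Tg hq hK),
    GoodT hq hK ⟨m, hm⟩ := by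
  intro m
  induction hN : (invSet ((chevRel certE6 K).nsPerm m)).ncard using Nat.strong_induction_on generalizing m with
  | _ N ih =>
    intro hm
    by_cases hH : (m : ↥(chevE6.group K)) ∈ (chevRel certE6 K).HS
    · exact good_torus hq hK hH
    obtain ⟨k, hk⟩ := (twE6 hq hK).exists_descent_orb ((twE6 hq hK).hfix _ hm) hH
    have hlt : (invSet ((chevRel certE6 K).nsPerm (m * ((twE6 hq hK).nJ k)⁻¹))).ncard < N := by
      have h1 := (twE6 hq hK).ncard_inv_mul_nJ hk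
      have h2 := (twE6 hq hK).posSub_nonempty k
      omega
    have hm' : ((m * ((twE6 hq hK).nJ k)⁻¹ : (chevRel certE6 K).NS) : ↥(chevE6.group K)) ∈ Tg hq hK :=
      mul_mem hm (inv_mem ((twE6 hq hK).nJ_mem k))
    have g1 := ih _ hlt _ rfl hm'
    set b : ↥(Tg hq hK) := ⟨((twE6 hq hK).nJ k : ↥(chevE6.group K)), (twE6 hq hK).nJ_mem k⟩
    have e : (⟨(m : ↥(chevE6.group K)), hm⟩ : ↥(Tg hq hK)) = ⟨_, hm'⟩ * b := Subtype.ext (by simp [b])
    rw [e]
    refine g1.mul (good_nJ hq hK k) fun x hx => ?_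
    rw [← e, mem_Dom, range_piU, mem_U1] at hx
    rw [mem_Dom, range_piU, mem_U1]
    set y : ↥(chevE6.group K) :=
      (((⟨(m : ↥(chevE6.group K)), hm⟩ : ↥(Tg hq hK))⁻¹ * piU hq hK x * ⟨(m : ↥(chevE6.group K)), hm⟩ :
        ↥(Tg hq hK)) : ↥(chevE6.group K)) with hy
    have hxU : (piU hq hK x : ↥(chevE6.group K)) ∈ (chevRel certE6 K).UP := by
      rw [← mem_U1, ← range_piU]; exact ⟨x, rfl⟩
    have hmy : (m : ↥(chevE6.group K)) * y * (m : ↥(chevE6.group K))⁻¹ ∈ (chevRel certE6 K).UP := by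
      simpa [hy, mul_assoc] using hxU
    obtain ⟨p, hp, i, hi, hpi⟩ := (chevRel certE6 K).exists_UP_factor ((chevRel certE6 K).nsPerm m) hx
    have hi1 : (m : ↥(chevE6.group K)) * i * (m : ↥(chevE6.group K))⁻¹ = 1 := by
      refine (chevRel certE6 K).BS_inf_UN ((chevRel certE6 K).UP_le_BS ?_) ((chevRel certE6 K).conj_inv hi)
      have : (m : ↥(chevE6.group K)) * i * (m : ↥(chevE6.group K))⁻¹ =
          ((m : ↥(chevE6.group K)) * p * (m : ↥(chevE6.group K))⁻¹)⁻¹ *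
            ((m : ↥(chevE6.group K)) * y * (m : ↥(chevE6.group K))⁻¹) := by rw [hpi]; group
      rw [this]
      exact mul_mem (inv_mem ((chevRel certE6 K).conj_keep hp)) hmy
    rw [mul_inv_eq_one, mul_eq_left] at hi1
    rw [hi1, mul_one] at hpi
    have hsub : keepSet ((chevRel certE6 K).nsPerm m) ⊆ keepSet ((chevRel certE6 K).nsPerm ((twE6 hq hK).nJ k)) :=
      fun r hr => ⟨hr.1, ((twE6 hq hK).nJ_pos hr.1 fun h => (hk h).2 hr.2).1⟩
    have h3 := (chevRel certE6 K).conj_keep ((chevRel certE6 K).US_mono hsub (hpi ▸ hp : y ∈ _))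
    convert h3 using 1
    simp [hy, mul_assoc]

/-- Every conjugation lifts. -/
theorem good_all (g : ↥(Tg hq hK)) : GoodT hq hK g := by
  obtain ⟨v, hv, m, u, hu, e, hv1, hm1, hu1⟩ := (twE6 hq hK).P1_bnu g.2
  have eg : g = ⟨v, hv1⟩ * ((⟨(m : ↥(chevE6.group K)), hm1⟩ : ↥(Tg hq hK)) * ⟨u, hu1⟩) := by
    refine Subtype.ext ?_
    simp [e, mul_assoc]
  have hvU : (⟨v, hv1⟩ : ↥(Tg hq hK)) ∈ U1 hq hK := hv
  have huU : (⟨u, hu1⟩ : ↥(Tg hq hK)) ∈ U1 hq hK := (chevRel certE6 K).US_mono (Rel.invSet_subset _) hu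
  rw [eg]
  refine (good_U hq hK hvU).mul ((good_NS hq hK m hm1).mul (good_U hq hK huU) fun x hx => ?_) fun x hx => ?_
  · rw [mem_Dom, range_piU] at hx ⊢
    have := mul_mem (mul_mem huU hx) (inv_mem huU)
    convert this using 1
    group
  · rw [mem_Dom, range_piU]
    exact mul_mem (mul_mem (inv_mem hvU) (range_piU hq hK ▸ ⟨x, rfl⟩)) hvU

end CfsgLib.Known.E6TwoMult
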