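import Cfsg.Agent.Lib.Known.E6TwoMult.Eval
import Cfsg.Agent.Lib.Known.E6TwoMult.Stable
import Cfsg.Agent.Lib.Known.E6TwoMult.PairChecks0
import Cfsg.Agent.Lib.Known.E6TwoMult.PairChecks1
import Cfsg.Agent.Lib.Known.E6TwoMult.PairChecks2
import Cfsg.Agent.Lib.Known.E6TwoMult.PairChecks3
import Cfsg.Agent.Lib.Known.E6TwoMult.Existence
import Cfsg.Agent.Lib.Schur.Corestriction

/-!
# The two part of the multiplier of `2E6(2)` has order at most four (owner: helper6)
-/

set_option autoImplicit false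
set_option linter.unusedSectionVars false
set_option maxRecDepth 20000

namespace CfsgLib.Known.E6TwoMult

open Tab
open scoped commutatorElement
open Cfsg.Lie (chevE6)
open CfsgLib.Lie.Chev CfsgLib.Lie.Chev.TwGroups CfsgLib.PLocal CfsgLib.PLocal.RadTw

universe u v

/-- The pairs in the order of their tails. -/
def pairsL : List (ℕ × ℕ) :=
  ((List.range 36).map fun i => (i, i)) ++ (List.range 36).flatMap fun i => (List.range i).map fun x => (i, x)

theorem pairsL_ok : ((List.range 36).all fun a => (List.range (a + 1)).all fun b =>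
    Nat.blt (did a b) 666 && pairsL.getD (did a b) (0, 0) == (a, b)) = true := by decide +kernel

theorem pair_all {a b : ℕ} (ha : a < 36) (hb : b ≤ a) : pairChk a b = true := by
  have hb' : b ∈ List.range (a + 1) := List.mem_range.2 (by omega)
  by_cases h1 : a < 10
  · exact List.all_eq_true.1 (List.all_eq_true.1 pairs_ok0 a (List.mem_range.2 h1)) b hb'
  by_cases h2 : a < 22
  · exact List.all_eq_true.1 (List.all_eq_true.1 pairs_ok1 a (List.mem_range'_1.2 ⟨by omega, by omega⟩)) b hb'
  by_cases h3 : a < 29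
  · exact List.all_eq_true.1 (List.all_eq_true.1 pairs_ok2 a (List.mem_range'_1.2 ⟨by omega, by omega⟩)) b hb'
  · exact List.all_eq_true.1 (List.all_eq_true.1 pairs_ok3 a (List.mem_range'_1.2 ⟨by omega, by omega⟩)) b hb'

theorem eq_all (e : (ℕ × ℕ × ℕ × ℕ) × (ℕ × ℕ)) (he : e ∈ eqAll) : eqChk e.1 e.2 = true := by
  rw [← List.take_append_drop 161 eqAll, ← List.take_append_drop 161 (eqAll.drop 161), List.drop_drop,
    ← List.take_append_drop 161 (eqAll.drop (161 + 161)), List.drop_drop] at he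
  simp only [List.mem_append] at he
  rcases he with h | h | h | h
  · exact List.all_eq_true.1 eqs_ok0 e h
  · exact List.all_eq_true.1 eqs_ok1 e h
  · exact List.all_eq_true.1 eqs_ok2 e h
  · exact List.all_eq_true.1 eqs_ok3 e h

theorem rhsW_lt {a b : ℕ} (ha : a < 36) (hb : b ≤ a) : ∀ g ∈ rhsW a b, g < 36 := fun g hg =>
  Nat.blt_eq.mp (List.all_eq_true.1 (List.all_eq_true.1 (List.all_eq_true.1 rhs_lt a (List.mem_range.2 ha)) b
    (List.mem_range.2 (by omega))) g hg)

theorem rhsW_self (a : ℕ) : rhsW a a = [] ∧ did a a = a := by simp [rhsW, did, Nat.beq_refl]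

theorem rhsW_lt_pair {a b : ℕ} (h : b < a) : rhsW a b = b :: tabU.rst a b ∧ did a b = tabU.pid a b := by
  have : Nat.beq a b = false := by
    cases e : Nat.beq a b
    · rfl
    · exact absurd (Nat.eq_of_beq_eq_true e) h.ne'
  simp [rhsW, did, this]

variable {K : Type u} [Field K] [Fintype K] (hq : IsPrimePow 2) (hK : Fintype.card K = 2 ^ 2)

theorem xt_rhs {a b : ℕ} (ha : a < 36) (hb : b ≤ a) :
    xt hq hK a * xt hq hK b = ((rhsW a b).map (xt hq hK)).prod := by
  have H := holdsU hq hK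
  rcases eq_or_lt_of_le hb with rfl | h
  · rw [(rhsW_self b).1, H.sq b (lev_all ha) ha]
    rfl
  · rw [(rhsW_lt_pair h).1, H.comm a b (lev_all (lt_trans h ha)) (lev_all ha) h ha]
    simp

theorem conj_xt {k g : ℕ} (hk : k < 5) (hg : g < 36) (hkeep : keepF k g = true) :
    nT hq hK k hk * xt hq hK g * (nT hq hK k hk)⁻¹ = ((img k g).map (xt hq hK)).prod := by
  have hl : ∀ e ∈ img k g, e < 36 := fun e he => Nat.blt_eq.mp
    (List.all_eq_true.1 (List.all_eq_true.1 (List.all_eq_true.1 img_lt k (List.mem_range.2 hk)) g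
      (List.mem_range.2 hg)) e he)
  refine Subtype.ext ?_
  rw [xt_prod hq hK _ hl, ← conj_x0 hq hK hk hg hkeep, ← xt_val hq hK hg]
  rfl

theorem piU_eq_nf {Γ : Type v} [Group Γ] (σ : Γ →* ↥(Tg hq hK)) (f : UT →* Γ)
    (ha : ∀ i, i < 36 → σ (f (aU i)) = xt hq hK i) (hι : ∀ z, σ (f (ιU z)) = 1) (y : UT) :
    σ (f y) = piU hq hK y := by
  obtain ⟨z, l, hl, rfl⟩ := ut_lvl.nf y
  simp only [map_mul, map_list_prod, List.map_map, hι, piU_ι]
  refine congrArg _ (congrArg List.prod (List.map_congr_left fun i hi => ?_))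
  have h36 : i < 36 := by
    have := List.mem_range'_1.1 (levL_all ▸ hl.subset hi : i ∈ List.range' 0 36)
    omega
  simp only [Function.comp_apply]
  rw [ha i h36, piU_a hq hK h36]

include hq hK in
/-- The kernel of a stem extension with exponent four. -/
theorem two_part {Γ : Type v} [Group Γ] [Finite Γ] (σ : Γ →* ↥(Tg hq hK)) (hσ : Cfsg.IsStemExtension σ)
    (h4 : ∀ z ∈ σ.ker, z ^ 4 = 1) : Nat.card σ.ker ≤ 4 ∧ ∀ z ∈ σ.ker, z * z = 1 := by
  classical
  obtain ⟨hs, hc, hd⟩ := hσ
  letI : CommGroup ↥σ.ker :=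
    { (inferInstance : Group ↥σ.ker) with
      mul_comm := fun a b => Subtype.ext (Subgroup.mem_center_iff.1 (hc b.2) a) }
  have hA4 : ∀ z : ↥σ.ker, z ^ 4 = 1 := fun z => Subtype.ext (by simpa using h4 z z.2)
  have hcen : ∀ (z : ↥σ.ker) (g : Γ), (z : Γ) * g = g * z := fun z g =>
    (Subgroup.mem_center_iff.1 (hc z.2) g).symm
  let kerOf : Γ → ↥σ.ker := fun x => if h : x ∈ σ.ker then ⟨x, h⟩ else 1
  have kerOf_val : ∀ x, σ x = 1 → (kerOf x : Γ) = x := fun x h => by
    have e : kerOf x = ⟨x, h⟩ := dif_pos (MonoidHom.mem_ker.2 h)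
    rw [e]
  let a : ℕ → Γ := fun g => (hs (xt hq hK g)).choose
  have ha : ∀ g, σ (a g) = xt hq hK g := fun g => (hs (xt hq hK g)).choose_spec
  let n : ℕ → Γ := fun k => if h : k < 5 then (hs (nT hq hK k h)).choose else 1
  have hn : ∀ k (h : k < 5), σ (n k) = nT hq hK k h := fun k h => by
    simp only [n, dif_pos h]; exact (hs (nT hq hK k h)).choose_spec
  let W : List ℕ → Γ := fun w => (w.map a).prod
  have hW : ∀ w, σ (W w) = (w.map (xt hq hK)).prod := fun w => by
    simp only [W, map_list_prod, List.map_map]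
    exact congrArg List.prod (List.map_congr_left fun g _ => ha g)
  let D : ℕ → ℕ → ↥σ.ker := fun p q => kerOf ((W (rhsW p q))⁻¹ * (a p * a q))
  let S : ℕ → ℕ → ↥σ.ker := fun k g => kerOf ((W (img k g))⁻¹ * (n k * a g * (n k)⁻¹))
  have hD : ∀ p q, p < 36 → q ≤ p → a p * a q = W (rhsW p q) * (D p q : Γ) := fun p q hp hq' => by
    simp only [D]
    rw [kerOf_val _ (by rw [map_mul, map_inv, hW, map_mul, ha, ha, xt_rhs hq hK hp hq', inv_mul_cancel]),
      mul_inv_cancel_left]
  have hS : ∀ k g, k < 5 → g < 36 → keepF k g = true →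
      n k * a g * (n k)⁻¹ = W (img k g) * (S k g : Γ) := fun k g hk hg hkeep => by
    simp only [S]
    rw [kerOf_val _ (by
      rw [map_mul, map_inv, hW, map_mul, map_mul, map_inv, ha, hn k hk, conj_xt hq hK hk hg hkeep, inv_mul_cancel]),
      mul_inv_cancel_left]
  let v : ℕ → ↥σ.ker := fun i =>
    if i < 666 then D (pairsL.getD i (0, 0)).1 (pairsL.getD i (0, 0)).2 else S ((i - 666) / 36) ((i - 666) % 36)
  have vD : ∀ p q, p < 36 → q ≤ p → v (did p q) = D p q := fun p q hp hq' => by
    have h := List.all_eq_true.1 (List.all_eq_true.1 pairsL_ok p (List.mem_range.2 hp)) q (List.mem_range.2 (by omega))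
    simp only [Bool.and_eq_true, beq_iff_eq, Nat.blt_eq] at h
    simp only [v, if_pos h.1, h.2]
  have vS : ∀ k g, g < 36 → v (sid k g) = S k g := fun k g hg => by
    simp only [v, sid]
    rw [if_neg (by omega), show (666 + 36 * k + g - 666) / 36 = k by omega,
      show (666 + 36 * k + g - 666) % 36 = g by omega]
  have H : tabU.Holds (tabU.lev allG 0) a fun e => (v e : Γ) := by
    refine ⟨fun k g => hcen _ g, fun x _ hx => ?_, fun i x _ _ hlt hi => ?_⟩
    · have := hD x x hx le_rfl
      rw [(rhsW_self x).1] at this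
      show a x * a x = (v x : Γ)
      rw [this, ← vD x x hx le_rfl, (rhsW_self x).2]
      simp [W]
    · have := hD i x hi hlt.le
      rw [← vD i x hi hlt.le, (rhsW_lt_pair hlt).1, (rhsW_lt_pair hlt).2] at this
      rw [this]
      simp [W]
  have hval : ∀ t : List ℕ, (t.map fun e => (v e : Γ)).prod = ((t.map v).prod : ↥σ.ker) := fun t => by
    rw [SubmonoidClass.coe_list_prod, List.map_map]; rfl
  have hcol : ∀ w, W w = W (tabU.collect (tabU.lev allG 0) fuel w).1 *
      (((tabU.collect (tabU.lev allG 0) fuel w).2.map v).prod : ↥σ.ker) := fun w => by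
    rw [← hval]; exact H.collect_spec fuel w
  have cancel : ∀ {x y : List ℕ} {s t : ↥σ.ker}, x = y → W x * (s : Γ) = W y * (t : Γ) → s = t := by
    intro x y s t e h
    subst e
    exact Subtype.ext (mul_left_cancel h)
  have W_app : ∀ x y, W (x ++ y) = W x * W y := fun x y => by simp [W]
  have hconjW : ∀ k, k < 5 → ∀ w : List ℕ, (∀ g ∈ w, g < 36 ∧ keepF k g = true) →
      n k * W w * (n k)⁻¹ = W (w.flatMap (img k)) * (((w.map (S k)).prod : ↥σ.ker) : Γ) := by
    intro k hk w
    induction w with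
    | nil => intro _; simp [W]
    | cons g w ih =>
      intro hw
      have e1 := hS k g hk (hw g List.mem_cons_self).1 (hw g List.mem_cons_self).2
      have e2 := ih fun y hy => hw y (List.mem_cons_of_mem _ hy)
      rw [List.flatMap_cons, W_app, List.map_cons, List.prod_cons, Subgroup.coe_mul,
        show W (g :: w) = a g * W w by simp [W],
        show n k * (a g * W w) * (n k)⁻¹ = (n k * a g * (n k)⁻¹) * (n k * W w * (n k)⁻¹) by group, e1, e2]
      rw [mul_assoc (W (img k g)), ← mul_assoc (S k g : Γ), hcen]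
      simp only [mul_assoc]
  have hev : ∀ e ∈ eqV, ev v e = 1 := by
    intro e he
    obtain ⟨⟨⟨k, p, q, r⟩, e'⟩, hmem, rfl⟩ := List.mem_map.1 he
    have h := eq_all _ hmem
    simp only [eqChk, Bool.and_eq_true, Nat.blt_eq, Nat.ble_eq] at h
    obtain ⟨⟨hp, hqp⟩, h⟩ := h
    cases hb : Nat.beq k 4
    · rw [hb, cond_false] at h
      simp only [Bool.and_eq_true, List.all_eq_true, Nat.blt_eq, beq_iff_eq] at h
      obtain ⟨⟨hk, hkeep⟩, ⟨hw, hlt⟩, hv⟩ := h
      have hqk := hkeep q (List.mem_cons_of_mem _ List.mem_cons_self)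
      have hpk := hkeep p List.mem_cons_self
      have hk5 : k < 5 := by omega
      have hrk : ∀ g ∈ rhsW p q, g < 36 ∧ keepF k g = true := fun g hg =>
        hkeep g (List.mem_cons_of_mem _ (List.mem_cons_of_mem _ hg))
      have hL : n k * (a p * a q) * (n k)⁻¹ = W (img k p ++ img k q) * ((S k p * S k q : ↥σ.ker) : Γ) := by
        rw [show n k * (a p * a q) * (n k)⁻¹ = (n k * a p * (n k)⁻¹) * (n k * a q * (n k)⁻¹) by group,
          hS k p hk5 hp hpk.2, hS k q hk5 hqk.1 hqk.2, W_app, Subgroup.coe_mul]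
        rw [mul_assoc (W (img k p)), ← mul_assoc (S k p : Γ), hcen]
        simp only [mul_assoc]
      have hR : n k * (a p * a q) * (n k)⁻¹ =
          W ((rhsW p q).flatMap (img k)) * ((((rhsW p q).map (S k)).prod * D p q : ↥σ.ker) : Γ) := by
        rw [hD p q hp hqp, show n k * (W (rhsW p q) * (D p q : Γ)) * (n k)⁻¹ =
          n k * W (rhsW p q) * ((D p q : Γ) * (n k)⁻¹) by group, hcen, ← mul_assoc, hconjW k hk5 _ hrk,
          Subgroup.coe_mul, mul_assoc]
      rw [hL, hcol, hcol ((rhsW p q).flatMap (img k)), mul_assoc, mul_assoc, ← Subgroup.coe_mul,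
        ← Subgroup.coe_mul] at hR
      have key := cancel hw hR
      change ev v e' = 1
      rw [hv, ev_vadd v hA4, ev_vneg v hA4, mul_inv_eq_one,
        ev_vlist v hA4 _ (fun i hi => hlt i (List.mem_append_left _ hi)),
        ev_vlist v hA4 _ (fun i hi => hlt i (List.mem_append_right _ hi))]
      simp only [List.map_append, List.map_cons, List.map_nil, List.prod_append, List.prod_cons, List.prod_nil,
        mul_one, List.map_map, vS k p hp, vS k q hqk.1, vD p q hp hqp]
      rw [show (rhsW p q).map (v ∘ sid k) = (rhsW p q).map (S k) from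
        List.map_congr_left fun g hg => vS k g (hrk g hg).1, key]
      ac_rfl
    · rw [hb, cond_true] at h
      simp only [Bool.and_eq_true, List.all_eq_true, Nat.blt_eq, Nat.ble_eq, beq_iff_eq] at h
      obtain ⟨hrq, ⟨hw, hlt⟩, hv⟩ := h
      have hq36 : q < 36 := lt_of_le_of_lt hqp hp
      have hR : a p * a q * a r = a p * (a q * a r) := mul_assoc _ _ _
      rw [hD p q hp hqp, hD q r hq36 hrq, mul_assoc (W _), hcen, ← mul_assoc,
        show W (rhsW p q) * a r = W (rhsW p q ++ [r]) by simp [W], ← mul_assoc (a p),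
        show a p * W (rhsW q r) = W (p :: rhsW q r) by simp [W], hcol, hcol (p :: rhsW q r), mul_assoc,
        mul_assoc, ← Subgroup.coe_mul, ← Subgroup.coe_mul] at hR
      have key := cancel hw hR
      change ev v e' = 1
      rw [hv, ev_vadd v hA4, ev_vneg v hA4, mul_inv_eq_one,
        ev_vlist v hA4 _ (fun i hi => hlt i (List.mem_append_left _ hi)),
        ev_vlist v hA4 _ (fun i hi => hlt i (List.mem_append_right _ hi))]
      simp only [List.map_append, List.map_cons, List.map_nil, List.prod_append, List.prod_cons, List.prod_nil,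
        mul_one, vD p q hp hqp, vD q r hq36 hrq]
      exact key
  obtain ⟨-, ht1, ht2⟩ := two_ok
  have d1 : ev v del1 * ev v del1 = 1 := by rw [← ev_vadd v hA4, ← ht1]; exact ev_combV v hA4 _ _ _ hev
  have d2 : ev v del2 * ev v del2 = 1 := by rw [← ev_vadd v hA4, ← ht2]; exact ev_combV v hA4 _ _ _ hev
  have z2 : ∀ x : ZMod 2, x = 0 ∨ x = 1 := by decide
  let j : V4 →* ↥σ.ker := MonoidHom.mk'
    (fun z => (if (Multiplicative.toAdd z).1 = 0 then 1 else ev v del1) *
      (if (Multiplicative.toAdd z).2 = 0 then 1 else ev v del2)) fun z z' => by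
    have hh : (1 + 1 : ZMod 2) = 0 := by decide
    simp only [toAdd_mul, Prod.fst_add, Prod.snd_add]
    rw [mul_mul_mul_comm]
    congr 1
    · rcases z2 (Multiplicative.toAdd z).1 with e | e <;> rcases z2 (Multiplicative.toAdd z').1 with e' | e' <;>
        simp [e, e', hh, d1]
    · rcases z2 (Multiplicative.toAdd z).2 with e | e <;> rcases z2 (Multiplicative.toAdd z').2 with e' | e' <;>
        simp [e, e', hh, d2]
  have hcls : ∀ c, c < 4 → ev v (clsV c) = j (enc c) := fun c hc4 => by
    show _ = (if (Multiplicative.toAdd (enc c)).1 = 0 then (1 : ↥σ.ker) else ev v del1) *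
      (if (Multiplicative.toAdd (enc c)).2 = 0 then 1 else ev v del2)
    obtain rfl | rfl | rfl | rfl : c = 0 ∨ c = 1 ∨ c = 2 ∨ c = 3 := by omega
    · rw [if_pos (by decide), if_pos (by decide), one_mul]; exact ev_zero v
    · rw [if_neg (by decide), if_pos (by decide), mul_one]; rfl
    · rw [if_pos (by decide), if_neg (by decide), one_mul]; rfl
    · rw [if_neg (by decide), if_neg (by decide), ← ev_vadd v hA4]; rfl
  let z : ℕ → ↥σ.ker := fun g => ev v (zvec g)
  let b : ℕ → Γ := fun g => a g * (z g : Γ)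
  have hb : ∀ w : List ℕ, (w.map b).prod = W w * (((w.map z).prod : ↥σ.ker) : Γ) := by
    intro w
    induction w with
    | nil => simp [W]
    | cons g w ih =>
      rw [List.map_cons, List.prod_cons, ih, List.map_cons, List.prod_cons, Subgroup.coe_mul,
        show W (g :: w) = a g * W w by simp [W]]
      simp only [b]
      rw [mul_assoc (a g), ← mul_assoc (z g : Γ), hcen]
      simp only [mul_assoc]
  have hpair : ∀ p q, p < 36 → q ≤ p →
      b p * b q = ((rhsW p q).map b).prod * (j (dv (did p q)) : Γ) := by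
    intro p q hp hqp
    have h := pair_all hp hqp
    simp only [pairChk, Bool.and_eq_true, Nat.blt_eq, beq_iff_eq] at h
    have e : ev v (tgtV p q) = 1 := h.2 ▸ ev_combV v hA4 _ _ _ hev
    have e' : ev v (tgtV p q) = D p q * (z p * z q) * (((rhsW p q).map z).prod * j (dv (did p q)))⁻¹ := by
      simp only [tgtV, ev_vadd v hA4, ev_vneg v hA4, ev_vone v h.1, vD p q hp hqp, ev_foldr v hA4,
        hcls _ (getD_lt cls_lt.1 _)]
      rfl
    rw [e', mul_inv_eq_one] at e
    calc b p * b q = a p * a q * ((z p * z q : ↥σ.ker) : Γ) := by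
          simp only [b, Subgroup.coe_mul]
          rw [mul_assoc (a p), ← mul_assoc (z p : Γ), hcen]
          simp only [mul_assoc]
      _ = W (rhsW p q) * ((D p q * (z p * z q) : ↥σ.ker) : Γ) := by
          rw [hD p q hp hqp, Subgroup.coe_mul _ (D p q), mul_assoc]
      _ = _ := by rw [e, Subgroup.coe_mul, ← mul_assoc, hb]
  have Hb : tabU.Holds (tabU.lev allG 0) b fun e => (σ.ker.subtype.comp j) (dv e) := by
    refine ⟨fun k g => hcen _ g, fun x _ hx => ?_, fun i x _ _ hlt hi => ?_⟩
    · have h := hpair x x hx le_rfl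
      rw [(rhsW_self x).1, (rhsW_self x).2] at h
      simpa using h
    · have h := hpair i x hi hlt.le
      rw [(rhsW_lt_pair hlt).1, (rhsW_lt_pair hlt).2] at h
      simpa using h
  obtain ⟨f, hf, hf'⟩ := univ_finite b (σ.ker.subtype.comp j) (fun z g => hcen _ g) Hb
  have hσf : ∀ y, σ (f y) = piU hq hK y := piU_eq_nf hq hK σ f (fun i hi => by
      rw [hf i hi]
      show σ (a i * (z i : Γ)) = _
      rw [map_mul, ha, show σ (z i : Γ) = 1 from (z i).2, mul_one])
    (fun z => by rw [hf']; exact (j z).2)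
  let H1 : Subgroup Γ := (piU hq hK).range.comap σ
  have hfac : ∀ h : ↥H1, ∃ (y : UT) (c : ↥σ.ker), (h : Γ) = f y * (c : Γ) := fun h => by
    obtain ⟨y, hy⟩ : σ (h : Γ) ∈ (piU hq hK).range := h.2
    refine ⟨y, ⟨(f y)⁻¹ * (h : Γ), ?_⟩, (mul_inv_cancel_left _ _).symm⟩
    rw [MonoidHom.mem_ker, map_mul, map_inv, hσf, hy, inv_mul_cancel]
  have hH1 : commutator ↥H1 ≤ f.range.comap H1.subtype := by
    rw [commutator_def, Subgroup.commutator_le]
    intro g _ g' _
    obtain ⟨y, c, e⟩ := hfac g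
    obtain ⟨y', c', e'⟩ := hfac g'
    refine ⟨⁅y, y'⁆, ?_⟩
    have hx1 : ∀ x, Commute (c : Γ) x := hcen c
    have hx2 : ∀ x, Commute (c' : Γ) x := hcen c'
    show f ⁅y, y'⁆ = ((⁅g, g'⁆ : ↥H1) : Γ)
    rw [map_commutatorElement]
    simp only [commutatorElement_def, Subgroup.coe_mul, Subgroup.coe_inv, e, e', mul_inv_rev]
    rw [mul_assoc (f y) (c : Γ), ← mul_assoc (c : Γ) (f y'), (hx1 (f y')).eq]
    simp only [mul_assoc]
    rw [← mul_assoc (c : Γ) (c' : Γ), ← mul_assoc ((c : Γ) * c') ((c : Γ)⁻¹), (hx1 (c' : Γ)).eq,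
      mul_inv_cancel_right, ← mul_assoc (c' : Γ), (hx2 (f y)⁻¹).eq]
    simp only [mul_assoc, mul_inv_cancel_left]
  have hodd := card_index hq hK
  have hidx : H1.index = (piU hq hK).range.index := Subgroup.index_comap_of_surjective _ hs
  have main : ∀ x : ↥σ.ker, x ^ 2 = 1 ∧ ∃ w, j w = x := by
    intro x
    obtain ⟨h, h'⟩ := CfsgLib.Schur.pow_index_mem_commutator H1 (hc x.2) (hd x.2)
    obtain ⟨y, hy⟩ := hH1 h'
    have hy1 : y ∈ (piU hq hK).ker := by
      rw [MonoidHom.mem_ker, ← hσf, hy]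
      show σ ((x : Γ) ^ H1.index) = 1
      rw [map_pow, show σ (x : Γ) = 1 from x.2, one_pow]
    rw [ker_piU] at hy1
    obtain ⟨w, rfl⟩ := hy1
    have hxw : x ^ H1.index = j w := Subtype.ext (by
      rw [Subgroup.coe_pow]
      exact (hy.symm.trans (hf' w) :))
    obtain ⟨m, hm⟩ := hodd
    rw [hidx, hm] at hxw
    have hw : j w ^ 2 = 1 := by rw [← map_pow, pow_two, v4_sq, map_one]
    have hx2 : x ^ 2 = 1 := by
      have e := hw
      rw [← hxw, ← pow_mul, show (2 * m + 1) * 2 = 4 * m + 2 by ring, pow_add, pow_mul, hA4, one_pow, one_mul] at e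
      exact e
    refine ⟨hx2, w, ?_⟩
    rw [← hxw, pow_add, pow_mul, hx2, one_pow, one_mul, pow_one]
  refine ⟨?_, fun x hx => ?_⟩
  · refine le_of_le_of_eq (Nat.card_le_card_of_surjective j fun x => (main x).2) ?_
    rw [Nat.card_congr Multiplicative.toAdd, Nat.card_prod, Nat.card_zmod]
  · have h := congrArg Subtype.val (main ⟨x, hx⟩).1
    rw [pow_two] at h
    exact h

end CfsgLib.Known.E6TwoMult
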